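import Mathlib
import Cfsg.Agent.Lib.Helper16.PUEDefs
import Cfsg.Agent.Lib.PL3.PL3ROOTS

/-! # S2511 piece PU3-SINGER2 (helper10): a Singer cycle of `GL_k(F)` whose `(|F|^k-1)/d`-th power is
scalar for every `d ∣ |F| - 1`. -/

set_option autoImplicit false
set_option linter.unusedSectionVars false
set_option linter.unusedVariables false

namespace Cfsg.Agent.Helper16.PU3

open Matrix

section fin

variable {F : Type*} [Field F] [Fintype F] {q : ℕ}

/-- PIECE PU3-SINGER2 [L1]. -/
theorem exists_singer_scalar (k : ℕ) (hk : 1 ≤ k) :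
    ∃ S : Matrix (Fin k) (Fin k) F, S.det ≠ 0 ∧ orderOf S = Fintype.card F ^ k - 1 ∧
      ∀ d : ℕ, d ∣ Fintype.card F - 1 →
        ∃ c : F, c ^ d = 1 ∧ S ^ ((Fintype.card F ^ k - 1) / d) = c • (1 : Matrix (Fin k) (Fin k) F) := by
  classical
  have : NeZero k := ⟨by omega⟩
  let p := ringChar F
  have : CharP F p := ringChar.charP F
  have : Fact p.Prime := ⟨CharP.char_is_prime F p⟩
  let K := FiniteField.Extension F p k
  have hfr : Module.finrank F K = k := FiniteField.finrank_extension F p k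
  have hcK : Nat.card K = Fintype.card F ^ k := by
    rw [FiniteField.natCard_extension, Nat.card_eq_fintype_card]
  obtain ⟨ζ, hζ⟩ := IsCyclic.exists_generator (α := Kˣ)
  have hζo : orderOf ζ = Fintype.card F ^ k - 1 := by
    rw [orderOf_eq_card_of_forall_mem_zpowers hζ, Nat.card_units, hcK]
  let b : Module.Basis (Fin k) F K := Module.finBasisOfFinrankEq F K hfr
  let ψ := Algebra.leftMulMatrix b
  have hψinj : Function.Injective ψ := Algebra.leftMulMatrix_injective b
  refine ⟨ψ (ζ : K), ?_, ?_, ?_⟩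
  · have h1 : ψ (ζ : K) * ψ ((ζ⁻¹ : Kˣ) : K) = 1 := by
      rw [← map_mul, Units.mul_inv, map_one]
    intro h0
    have := congrArg Matrix.det h1
    rw [Matrix.det_mul, h0, zero_mul, Matrix.det_one] at this
    exact zero_ne_one this
  · rw [← hζo, ← orderOf_units (y := ζ)]
    exact orderOf_injective (ψ : K →* Matrix (Fin k) (Fin k) F) hψinj (ζ : K)
  · intro d hd
    have hq1 : 1 < Fintype.card F := Fintype.one_lt_card
    -- `card F - 1 ∣ card F ^ k - 1`
    have hdvd1 : Fintype.card F - 1 ∣ Fintype.card F ^ k - 1 := by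
      have := Nat.sub_dvd_pow_sub_pow (Fintype.card F) 1 k
      rwa [one_pow] at this
    have hdd : d ∣ Fintype.card F ^ k - 1 := hd.trans hdvd1
    set κ : K := (ζ : K) ^ ((Fintype.card F ^ k - 1) / d) with hκ
    have hκd : κ ^ d = 1 := by
      rw [hκ, ← pow_mul, Nat.div_mul_cancel hdd, ← hζo, ← Units.val_pow_eq_pow_val,
        pow_orderOf_eq_one, Units.val_one]
    obtain ⟨c, hc, hcκ⟩ := Cfsg.Agent.Helper21.PL3.mem_range_of_pow_eq_one d hd κ hκd
    refine ⟨c, hc, ?_⟩
    rw [← map_pow, ← hκ, ← hcκ]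
    rw [AlgHom.commutes, Algebra.algebraMap_eq_smul_one]

end fin

end Cfsg.Agent.Helper16.PU3
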