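import Mathlib

/-!
# S2511, piece PU3-NORMROOT (helper19): a monic irreducible `f` over a finite field divides
`X ^ ((Q^e - 1)/(Q - 1)) - C ((-1)^e f(0))`, `e = deg f` (norm of the root).
-/

set_option autoImplicit false
set_option linter.unusedSectionVars false
set_option linter.unusedVariables false

namespace Cfsg.Agent.Helper16.PU3

open Polynomial Matrix

section finpoly

variable {F : Type*} [Field F] [Fintype F] {q : ℕ}

/-- PIECE PU3-NORMROOT [L1]. -/
theorem root_pow_eq_coeff_zero (f : F[X]) (hf : f.Monic) (hirr : Irreducible f) :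
    f ∣ X ^ ((Fintype.card F ^ f.natDegree - 1) / (Fintype.card F - 1)) -
      C ((-1) ^ f.natDegree * f.coeff 0) := by
  classical
  have hfact : Fact (Irreducible f) := ⟨hirr⟩
  have hf0 : f ≠ 0 := hirr.ne_zero
  set pb := AdjoinRoot.powerBasis hf0 with hpb
  have hfd : Module.Finite F (AdjoinRoot f) := pb.finite
  have hfin : Finite (AdjoinRoot f) := Module.finite_of_finite F
  have hcardK : Nat.card (AdjoinRoot f) = Fintype.card F ^ f.natDegree := by
    rw [Module.natCard_eq_pow_finrank (K := F) (V := AdjoinRoot f), pb.finrank, Nat.card_eq_fintype_card]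
    rfl
  have hnorm := FiniteField.algebraMap_norm_eq_pow (K := F) (K' := AdjoinRoot f)
    (x := AdjoinRoot.root f)
  rw [hcardK, Nat.card_eq_fintype_card] at hnorm
  have hN : Algebra.norm F (AdjoinRoot.root f) = (-1) ^ f.natDegree * f.coeff 0 := by
    have h1 := Algebra.PowerBasis.norm_gen_eq_coeff_zero_minpoly pb
    have h2 : pb.gen = AdjoinRoot.root f := rfl
    have h3 : pb.dim = f.natDegree := rfl
    rw [h2, h3, AdjoinRoot.minpoly_root hf0, hf.leadingCoeff, inv_one, map_one, mul_one] at h1
    exact h1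
  rw [hN] at hnorm
  rw [← AdjoinRoot.mk_eq_zero]
  rw [map_sub, map_pow, AdjoinRoot.mk_X, AdjoinRoot.mk_C, ← hnorm]
  exact sub_self _

end finpoly

end Cfsg.Agent.Helper16.PU3
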