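import Mathlib
import Cfsg.Agent.Lib.Helper10.PUDefs
import Cfsg.Agent.Lib.Helper27.PUNUMDVD

/-! PU3-ARITHW (S2511, design helper16; by helper27): `x ^ E(n0) = 1`, `x ^ (w(n0) m') = 1` imply
`x ^ w(n0 m') = 1`. -/

set_option autoImplicit false
set_option linter.unusedSectionVars false
set_option linter.unusedVariables false

namespace Cfsg.Agent.Helper16.PU3

open Polynomial Matrix
open Cfsg.Agent.Helper10.PU (dagger Efun wfun)

theorem pu3_arithw_Efun_cast (q n : ℕ) (hq : 1 ≤ q) :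
    ((Efun q n : ℕ) : ℤ) = (q : ℤ) ^ n - (-1) ^ n := by
  unfold Efun
  split_ifs with h
  · have h1 : 1 ≤ q ^ n := Nat.one_le_pow _ _ hq
    rw [Nat.cast_sub h1, Even.neg_one_pow h]
    push_cast
    ring
  · have h1 : Odd n := Nat.not_even_iff_odd.mp h
    rw [Odd.neg_one_pow h1]
    push_cast
    ring

theorem pu3_arithw_wfun_cast (q n : ℕ) (hn : 1 ≤ n) :
    ((wfun q n : ℕ) : ℤ) * ((q : ℤ) + 1) = ((Efun q n : ℕ) : ℤ) := by
  have h := Nat.div_mul_cancel (Cfsg.Agent.Helper10.PU.succ_dvd_Efun q n hn)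
  have h2 : wfun q n * (q + 1) = Efun q n := h
  rw [← h2]
  push_cast
  ring

theorem pu3_arithw_geom (Y s : ℤ) (m : ℕ) (hm : 1 ≤ m) :
    ∃ j : ℤ, Y ^ m - s ^ m = (Y - s) * ((m : ℤ) * s ^ (m - 1) + (Y - s) * j) := by
  have h1 := geom_sum₂_mul Y s m
  have h2 : (Y - s) ∣ (∑ i ∈ Finset.range m, Y ^ i * s ^ (m - 1 - i)) - (m : ℤ) * s ^ (m - 1) := by
    have h3 : (∑ i ∈ Finset.range m, Y ^ i * s ^ (m - 1 - i)) - (m : ℤ) * s ^ (m - 1) =
        ∑ i ∈ Finset.range m, (Y ^ i - s ^ i) * s ^ (m - 1 - i) := by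
      have h4 : ∀ i ∈ Finset.range m, (Y ^ i - s ^ i) * s ^ (m - 1 - i) =
          Y ^ i * s ^ (m - 1 - i) - s ^ (m - 1) := by
        intro i hi
        have hi' : i ≤ m - 1 := by
          have := Finset.mem_range.mp hi
          omega
        have h5 : s ^ i * s ^ (m - 1 - i) = s ^ (m - 1) := by
          rw [← pow_add]
          congr 1
          omega
        rw [sub_mul, h5]
      rw [Finset.sum_congr rfl h4, Finset.sum_sub_distrib, Finset.sum_const, Finset.card_range,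
        nsmul_eq_mul]
    rw [h3]
    apply Finset.dvd_sum
    intro i hi
    exact Dvd.dvd.mul_right (sub_dvd_pow_sub_pow Y s i) _
  obtain ⟨j, hj⟩ := h2
  refine ⟨j, ?_⟩
  rw [← h1]
  have h6 : (∑ i ∈ Finset.range m, Y ^ i * s ^ (m - 1 - i)) = (m : ℤ) * s ^ (m - 1) + (Y - s) * j := by
    rw [← hj]
    ring
  rw [h6]
  ring

/-- PIECE PU3-ARITHW [L1]. -/
theorem pow_wfun_eq_one {G : Type*} [Group G] (x : G) (q n0 m' : ℕ) (hq : 2 ≤ q) (hn0 : 1 ≤ n0)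
    (hm : 1 ≤ m') (h1 : x ^ Efun q n0 = 1) (h2 : x ^ (wfun q n0 * m') = 1) :
    x ^ wfun q (n0 * m') = 1 := by
  have hq1 : 1 ≤ q := by omega
  have hn : 1 ≤ n0 * m' := Nat.mul_pos hn0 hm
  obtain ⟨j, hj⟩ := pu3_arithw_geom ((q : ℤ) ^ n0) ((-1) ^ n0) m' hm
  have hE0 := pu3_arithw_Efun_cast q n0 hq1
  have hE := pu3_arithw_Efun_cast q (n0 * m') hq1
  have hw0 := pu3_arithw_wfun_cast q n0 hn0
  have hw := pu3_arithw_wfun_cast q (n0 * m') hn
  have hqne : ((q : ℤ) + 1) ≠ 0 := by positivity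
  have key : ((wfun q (n0 * m') : ℕ) : ℤ) =
      ((wfun q n0 * m' : ℕ) : ℤ) * ((-1) ^ n0) ^ (m' - 1) +
        ((Efun q n0 : ℕ) : ℤ) * (j * ((wfun q n0 : ℕ) : ℤ)) := by
    apply mul_right_cancel₀ hqne
    rw [hw, hE, pow_mul, pow_mul, hj, ← hE0, ← hw0]
    push_cast
    ring
  rw [← zpow_natCast, key, _root_.zpow_add, _root_.zpow_mul, zpow_natCast, h2, _root_.one_zpow,
    _root_.zpow_mul, zpow_natCast, h1, _root_.one_zpow, one_mul]

end Cfsg.Agent.Helper16.PU3
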