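import Mathlib
import Cfsg.Prelude.Def_Classical
import Cfsg.Agent.Lib.Helper11.Unitary3

/-!
# S2511 piece PU3-SUCENT: `(mk g)^k = 1` in `PSU_n` iff `g^k` is a scalar matrix.
-/

set_option autoImplicit false
set_option linter.unusedSectionVars false
set_option linter.unusedVariables false

namespace Cfsg.Agent.Helper16.PU3

open Polynomial Matrix
open Cfsg.Agent.Helper11.Herm

section fin

variable {F : Type*} [Field F] [Fintype F] {q : ℕ}

omit [Fintype F] in
theorem pu3_sucent_coe_pow (n : ℕ) (g : Cfsg.SU n F q) (k : ℕ) :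
    (((g ^ k : Cfsg.SU n F q) : Matrix.SpecialLinearGroup (Fin n) F) :
      Matrix (Fin n) (Fin n) F) =
      ((g : Matrix.SpecialLinearGroup (Fin n) F) : Matrix (Fin n) (Fin n) F) ^ k := by
  rw [SubgroupClass.coe_pow, Matrix.SpecialLinearGroup.coe_pow]

/-- PIECE PU3-SUCENT [L1]. -/
theorem mk_pow_eq_one_iff (hF : Fintype.card F = q ^ 2) (n : ℕ) (hn : 1 ≤ n) (g : Cfsg.SU n F q)
    (k : ℕ) :
    (QuotientGroup.mk g : Cfsg.PSU n F q) ^ k = 1 ↔
      ∃ c : F, ((g : Matrix.SpecialLinearGroup (Fin n) F) : Matrix (Fin n) (Fin n) F) ^ k =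
        c • (1 : Matrix (Fin n) (Fin n) F) := by
  rw [← QuotientGroup.mk_pow, QuotientGroup.eq_one_iff]
  constructor
  · intro hz
    have h := center_SU_scalar hF n ⟨0, hn⟩ (g ^ k) hz
    rw [pu3_sucent_coe_pow] at h
    exact ⟨_, h⟩
  · rintro ⟨c, hc⟩
    rw [Subgroup.mem_center_iff]
    intro h
    apply SU_ext
    rw [SU_mul_coe, SU_mul_coe, pu3_sucent_coe_pow, hc]
    rw [Matrix.mul_smul, Matrix.smul_mul, Matrix.mul_one, Matrix.one_mul]

end fin

end Cfsg.Agent.Helper16.PU3
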