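import Mathlib
import Cfsg.Prelude.Def_Classical
import Cfsg.Agent.Lib.Helper11.Unitary3
import Cfsg.Agent.Lib.Helper11.UnitaryGeom
import Cfsg.Agent.Lib.PU3.PU3SUCENT

/-!
# S2511, piece PU3-BLOCKSU (helper14 for helper16): the block diagonal element `diag(A, 1)` of `SU_n(q)`.
-/

set_option autoImplicit false
set_option linter.unusedSectionVars false
set_option linter.unusedVariables false

namespace Cfsg.Agent.Helper16.PU3

open Polynomial Matrix
open Cfsg.Agent.Helper11.Herm

section fin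

variable {F : Type*} [Field F] [Fintype F] {q : ℕ}

omit [Fintype F] in
/-- powers of a reindexed matrix -/
theorem pu3_blocksu_submatrix_pow {ι ι' : Type} [Fintype ι] [DecidableEq ι] [Fintype ι']
    [DecidableEq ι'] (e : ι ≃ ι') (B : Matrix ι ι F) (k : ℕ) :
    (B.submatrix e.symm e.symm) ^ k = (B ^ k).submatrix e.symm e.symm := by
  induction k with
  | zero => rw [pow_zero, pow_zero, Matrix.submatrix_one_equiv]
  | succ k ih => rw [pow_succ, pow_succ, ih, Matrix.submatrix_mul_equiv]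

omit [Fintype F] in
/-- a reindexed matrix is scalar iff the matrix is -/
theorem pu3_blocksu_submatrix_eq_smul_one {ι ι' : Type} [Fintype ι] [DecidableEq ι] [Fintype ι']
    [DecidableEq ι'] (e : ι ≃ ι') (B : Matrix ι ι F) (c : F) :
    B.submatrix e.symm e.symm = c • (1 : Matrix ι' ι' F) ↔ B = c • (1 : Matrix ι ι F) := by
  have hsc : (c • (1 : Matrix ι ι F)).submatrix e.symm e.symm = c • (1 : Matrix ι' ι' F) := by
    ext i j
    simp [Matrix.submatrix_apply, Matrix.one_apply]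
  constructor
  · intro h
    rw [← hsc] at h
    have h1 := congrArg (fun X : Matrix ι' ι' F => X.submatrix e e) h
    simpa using h1
  · intro h
    rw [h, hsc]

omit [Fintype F] in
/-- a block diagonal matrix is scalar iff both blocks are -/
theorem pu3_blocksu_fromBlocks_eq_smul_one {κ₁ κ₂ : Type} [Fintype κ₁] [DecidableEq κ₁]
    [Fintype κ₂] [DecidableEq κ₂] (A : Matrix κ₁ κ₁ F) (D : Matrix κ₂ κ₂ F) (c : F) :
    Matrix.fromBlocks A 0 0 D = c • (1 : Matrix (κ₁ ⊕ κ₂) (κ₁ ⊕ κ₂) F) ↔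
      A = c • (1 : Matrix κ₁ κ₁ F) ∧ D = c • (1 : Matrix κ₂ κ₂ F) := by
  rw [← Matrix.fromBlocks_one, Matrix.fromBlocks_smul, Matrix.fromBlocks_inj]
  simp only [smul_zero, true_and]

/-- PIECE PU3-BLOCKSU [L2: mk_pow_eq_one_iff]. -/
theorem exists_block_SU (hF : Fintype.card F = q ^ 2) (φ : F →+* F) (hφ : ∀ x, φ x = x ^ q)
    (n J : ℕ) (hJ1 : 1 ≤ J) (hJ : J + 1 ≤ n) (A : Matrix (Fin J) (Fin J) F) (hA : IsU φ A)
    (hdet : A.det = 1) :
    ∃ (u : Cfsg.SU n F q) (e : Matrix (Fin n) (Fin n) F), e * e = e ∧ e ≠ 0 ∧ e ≠ 1 ∧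
      eᵀ = e.map φ ∧
      Commute e ((u : Matrix.SpecialLinearGroup (Fin n) F) : Matrix (Fin n) (Fin n) F) ∧
      orderOf (QuotientGroup.mk u : Cfsg.PSU n F q) = orderOf A := by
  classical
  have hnJ : J + (n - J) = n := by omega
  let e0 : Fin J ⊕ Fin (n - J) ≃ Fin n := finSumFinEquiv.trans (finCongr hnJ)
  have i1 : Fin J := ⟨0, by omega⟩
  have i2 : Fin (n - J) := ⟨0, by omega⟩
  set B : Matrix (Fin J ⊕ Fin (n - J)) (Fin J ⊕ Fin (n - J)) F :=
    Matrix.fromBlocks A 0 0 1 with hB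
  set M : Matrix (Fin n) (Fin n) F := B.submatrix e0.symm e0.symm with hMdef
  have hone : IsU φ (1 : Matrix (Fin (n - J)) (Fin (n - J)) F) := by
    unfold IsU
    rw [Matrix.transpose_one, Matrix.map_one _ (map_zero φ) (map_one φ), Matrix.one_mul]
  have hM : IsU φ M := (isU_submatrix_iff φ e0 B).2 (isU_fromBlocks₂ φ A 1 hA hone)
  have hdetM : M.det = 1 := by
    rw [hMdef, Matrix.det_submatrix_equiv_self, hB, Matrix.det_fromBlocks_zero₂₁, hdet,
      Matrix.det_one, one_mul]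
  have hM' : ∀ φ' : F →+* F, (∀ x, φ' x = x ^ q) → IsU φ' M := by
    intro φ' hφ'
    have : φ' = φ := RingHom.ext (fun x => by rw [hφ', hφ])
    rw [this]; exact hM
  set u : Cfsg.SU n F q := mkSU hF n M hdetM hM' with hu
  have hval : ((u : Matrix.SpecialLinearGroup (Fin n) F) : Matrix (Fin n) (Fin n) F) = M :=
    coe_mkSU hF n M hdetM hM'
  set E0 : Matrix (Fin J ⊕ Fin (n - J)) (Fin J ⊕ Fin (n - J)) F :=
    Matrix.fromBlocks 1 0 0 0 with hE0
  set E : Matrix (Fin n) (Fin n) F := E0.submatrix e0.symm e0.symm with hE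
  refine ⟨u, E, ?_, ?_, ?_, ?_, ?_, ?_⟩
  · rw [hE, Matrix.submatrix_mul_equiv, hE0, Matrix.fromBlocks_multiply]
    simp
  · intro h
    have h1 := congrFun (congrFun h (e0 (Sum.inl i1))) (e0 (Sum.inl i1))
    simp [hE, hE0, Matrix.submatrix_apply] at h1
  · intro h
    have h1 := congrFun (congrFun h (e0 (Sum.inr i2))) (e0 (Sum.inr i2))
    simp [hE, hE0, Matrix.submatrix_apply] at h1
  · rw [hE, Matrix.transpose_submatrix, ← Matrix.submatrix_map, hE0, Matrix.fromBlocks_transpose,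
      Matrix.fromBlocks_map]
    simp [Matrix.map_one _ (map_zero φ) (map_one φ), Matrix.map_zero _ (map_zero φ)]
  · rw [hval]
    unfold Commute SemiconjBy
    rw [hE, hMdef, Matrix.submatrix_mul_equiv, Matrix.submatrix_mul_equiv, hE0, hB,
      Matrix.fromBlocks_multiply, Matrix.fromBlocks_multiply]
    simp
  · apply orderOf_eq_orderOf_iff.mpr
    intro k
    rw [mk_pow_eq_one_iff hF n (by omega) u k, hval, hMdef, pu3_blocksu_submatrix_pow, hB,
      Matrix.fromBlocks_diagonal_pow]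
    constructor
    · rintro ⟨c, hc⟩
      rw [pu3_blocksu_submatrix_eq_smul_one, pu3_blocksu_fromBlocks_eq_smul_one] at hc
      have hc1 : c = 1 := by
        have h2 := congrFun (congrFun hc.2 i2) i2
        simpa using h2.symm
      rw [hc1, one_smul] at hc
      exact hc.1
    · intro h1
      refine ⟨1, ?_⟩
      rw [pu3_blocksu_submatrix_eq_smul_one, pu3_blocksu_fromBlocks_eq_smul_one, one_smul, one_smul]
      exact ⟨h1, one_pow k⟩

end fin

end Cfsg.Agent.Helper16.PU3
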