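import Mathlib
import Cfsg.Prelude.Def_Classical
import Cfsg.Agent.Lib.Helper10.PUDefs
import Cfsg.Agent.Lib.Helper21.EOSTAR1
import Cfsg.Agent.Lib.Helper11.Unitary3
import Cfsg.Agent.Lib.Helper11.UnitaryGeom

/-!
# S2511 piece PU3-CHARDAG (helper24): the characteristic polynomial of a unitary matrix is
self-`dagger`.
-/

set_option autoImplicit false
set_option linter.unusedSectionVars false
set_option linter.unusedVariables false

namespace Cfsg.Agent.Helper16.PU3

open Polynomial Matrix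
open Cfsg.Agent.Helper11.Herm
open Cfsg.Agent.Helper10.PU (dagger Efun wfun)

section C

variable {F : Type*} [Field F]

/-- PIECE PU3-CHARDAG [L1]. -/
theorem dagger_charpoly (φ : F →+* F) (hφφ : ∀ x, φ (φ x) = x) {n : ℕ}
    (H : Matrix (Fin n) (Fin n) F) (hU : IsU φ H) :
    H.charpoly.coeff 0 ≠ 0 ∧ dagger φ H.charpoly = H.charpoly := by
  have hdet : H.det ≠ 0 := IsU.det_ne_zero φ hU
  have hdet' : H.det = (-1) ^ n * H.charpoly.coeff 0 := by
    have := Matrix.det_eq_sign_charpoly_coeff H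
    rwa [Fintype.card_fin] at this
  have h0 : H.charpoly.coeff 0 ≠ 0 := by
    intro h
    rw [h, mul_zero] at hdet'
    exact hdet hdet'
  refine ⟨h0, ?_⟩
  have hinv : (Hᵀ)⁻¹ = H.map φ := Matrix.inv_eq_right_inv hU
  have hunit : IsUnit Hᵀ := by
    rw [Matrix.isUnit_iff_isUnit_det, Matrix.det_transpose]
    exact isUnit_iff_ne_zero.2 hdet
  have hmap : H.charpoly.map φ = Cfsg.Agent.Helper10.EO.star H.charpoly := by
    rw [← Matrix.charpoly_map, ← hinv, Matrix.charpoly_inv _ hunit, ← Matrix.reverse_charpoly,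
      Matrix.charpoly_transpose, Matrix.det_transpose, Fintype.card_fin, Ring.inverse_eq_inv', hdet']
    unfold Cfsg.Agent.Helper10.EO.star
    congr 1
    rw [mul_inv, C_mul, ← mul_assoc]
    have h1 : ((-1 : F[X]) ^ n) * C (((-1 : F) ^ n)⁻¹) = 1 := by
      rw [← inv_pow, inv_neg, inv_one, C_pow, C_neg, C_1, ← mul_pow]
      simp
    rw [h1, one_mul]
  unfold dagger
  rw [hmap]
  exact (Cfsg.Agent.Helper10.EO.star_facts H.charpoly h0).2.2.2 (Matrix.charpoly_monic H)

end C

end Cfsg.Agent.Helper16.PU3
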