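import Mathlib

/-!
# S2511 piece PU3-CHARDVD (helper24): the characteristic polynomial divides a power of the
minimal polynomial.
-/

set_option autoImplicit false
set_option linter.unusedSectionVars false
set_option linter.unusedVariables false

namespace Cfsg.Agent.Helper16.PU3

open Polynomial Matrix

section C

variable {F : Type*} [Field F]

/-- in a (possibly noncommutative) algebra, `a - b` left-divides `p(a) - p(b)` for commuting `a, b` -/
theorem pu3_chardvd_sub_dvd_aeval {R : Type*} [Ring R] [Algebra F R] (a b : R) (hab : Commute a b)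
    (p : F[X]) : a - b ∣ aeval a p - aeval b p := by
  induction p using Polynomial.induction_on' with
  | add p q hp hq =>
    have : aeval a (p + q) - aeval b (p + q) =
        (aeval a p - aeval b p) + (aeval a q - aeval b q) := by
      rw [map_add, map_add]; abel
    rw [this]
    exact dvd_add hp hq
  | monomial i c =>
    obtain ⟨d, hd⟩ := hab.sub_dvd_pow_sub_pow i
    refine ⟨c • d, ?_⟩
    rw [aeval_monomial, aeval_monomial, mul_smul_comm, ← hd, Algebra.algebraMap_eq_smul_one,
      smul_mul_assoc, smul_mul_assoc, one_mul, one_mul, smul_sub]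

/-- PIECE PU3-CHARDVD [L1]. -/
theorem charpoly_dvd_minpoly_pow {n : ℕ} (M : Matrix (Fin n) (Fin n) F) :
    M.charpoly ∣ (minpoly F M) ^ n := by
  set μ := minpoly F M with hμ
  -- the two commuting matrices over `F[X]`
  set A : Matrix (Fin n) (Fin n) F[X] := algebraMap F[X] (Matrix (Fin n) (Fin n) F[X]) X with hA
  set B : Matrix (Fin n) (Fin n) F[X] :=
    (Polynomial.CAlgHom (R := F) (A := F)).mapMatrix M with hB
  have hcomm : Commute A B := Algebra.commute_algebraMap_left X B
  have hAμ : aeval A μ = algebraMap F[X] (Matrix (Fin n) (Fin n) F[X]) μ := by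
    rw [hA, Polynomial.aeval_algebraMap_apply, aeval_X_left_apply]
  have hBμ : aeval B μ = 0 := by
    rw [hB, Polynomial.aeval_algHom_apply, hμ, minpoly.aeval, map_zero]
  obtain ⟨D, hD⟩ := pu3_chardvd_sub_dvd_aeval (F := F) A B hcomm μ
  rw [hAμ, hBμ, sub_zero] at hD
  have hchar : A - B = charmatrix M := by
    rw [hA, hB]
    ext i j
    simp [charmatrix, Matrix.algebraMap_eq_diagonal, Matrix.diagonal_apply, Matrix.scalar_apply]
  have hdet := congrArg Matrix.det hD
  rw [Matrix.det_mul, hchar, Matrix.algebraMap_eq_diagonal, Matrix.det_diagonal] at hdet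
  simp only [Pi.algebraMap_apply, Algebra.algebraMap_self, RingHom.id_apply, Finset.prod_const,
    Finset.card_univ, Fintype.card_fin] at hdet
  exact ⟨D.det, hdet⟩

end C

end Cfsg.Agent.Helper16.PU3
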