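import Mathlib
import Cfsg.Agent.Lib.Helper10.PUDefs
import Cfsg.Agent.Lib.Helper22.PUDAG1
import Cfsg.Agent.Lib.Helper24.PUDAG2

/-!
# S2511 piece PU3-CHARPOW (helper5, designer helper16)

`charpoly_eq_pow`: a monic dagger-fixed polynomial dividing a power of a single dagger-orbit `μ`
(`μ = f` or `μ = f * dagger f`) is a power of `μ`.
-/

set_option autoImplicit false
set_option linter.unusedSectionVars false
set_option linter.unusedVariables false

namespace Cfsg.Agent.Helper16.PU3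

open Polynomial Matrix
open Cfsg.Agent.Helper10.PU (dagger Efun wfun)

section poly

variable {F : Type*} [Field F]

/-- a monic divisor of a power of a monic irreducible is a power of it -/
theorem pu3_charpow_dvd_pow (f χ : F[X]) (n : ℕ) (hf : f.Monic) (hirr : Irreducible f)
    (hχm : χ.Monic) (h : χ ∣ f ^ n) : ∃ i : ℕ, χ = f ^ i := by
  obtain ⟨i, _, hi⟩ := (dvd_prime_pow hirr.prime n).1 h
  exact ⟨i, eq_of_monic_of_associated hχm (hf.pow i) hi⟩

/-- dagger of a power -/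
theorem pu3_charpow_dagger_pow (φ : F →+* F) (hφφ : ∀ x, φ (φ x) = x) (f : F[X])
    (hf0 : f.coeff 0 ≠ 0) (i : ℕ) : dagger φ (f ^ i) = dagger φ f ^ i := by
  have hmul := (Cfsg.Agent.Helper10.PU.dagger_mul_irreducible φ hφφ).1
  induction i with
  | zero =>
    rw [pow_zero, pow_zero]
    unfold dagger
    rw [Polynomial.map_one]
    unfold Cfsg.Agent.Helper10.EO.star
    rw [coeff_one_zero, inv_one, C_1, one_mul, ← C_1, reverse_C]
  | succ i ih =>
    have h0 : (f ^ i).coeff 0 ≠ 0 := by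
      rw [coeff_zero_eq_eval_zero, eval_pow, ← coeff_zero_eq_eval_zero]
      exact pow_ne_zero i hf0
    rw [pow_succ, pow_succ, hmul (f ^ i) f h0 hf0, ih]

/-- exponent comparison for coprime non-units -/
theorem pu3_charpow_le (f f' : F[X]) (hirr : Irreducible f) (hcop : IsCoprime f f')
    (i j : ℕ) (h : f ^ i * f' ^ j = f ^ j * f' ^ i) : i ≤ j := by
  have h1 : f ^ i ∣ f ^ j * f' ^ i := ⟨f' ^ j, h.symm⟩
  have h2 : IsCoprime (f ^ i) (f' ^ i) := hcop.pow
  have h3 : f ^ i ∣ f ^ j := h2.dvd_of_dvd_mul_right h1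
  exact (pow_dvd_pow_iff hirr.ne_zero hirr.not_isUnit).1 h3

/-- PIECE PU3-CHARPOW [L1]. -/
theorem charpoly_eq_pow (φ : F →+* F) (hφφ : ∀ x, φ (φ x) = x) (f μ χ : F[X]) (n : ℕ)
    (hf : f.Monic) (hirr : Irreducible f) (hf0 : f.coeff 0 ≠ 0)
    (hμ : (μ = f ∧ dagger φ f = f) ∨ (μ = f * dagger φ f ∧ dagger φ f ≠ f))
    (hχm : χ.Monic) (hχ0 : χ.coeff 0 ≠ 0) (hχd : dagger φ χ = χ) (h2 : χ ∣ μ ^ n) :
    ∃ m' : ℕ, χ = μ ^ m' := by
  rcases hμ with ⟨rfl, _⟩ | ⟨rfl, hne⟩
  · exact pu3_charpow_dvd_pow μ χ n hf hirr hχm h2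
  · set f' := dagger φ f with hf'
    obtain ⟨hf'm, _, hf'0, hf'd⟩ := Cfsg.Agent.Helper10.PU.dagger_facts φ hφφ f hf0
    have hf'dd : dagger φ f' = f := hf'd hf
    have hf'irr : Irreducible f' :=
      (Cfsg.Agent.Helper10.PU.dagger_mul_irreducible φ hφφ).2 f hf0 hirr
    have hmul := (Cfsg.Agent.Helper10.PU.dagger_mul_irreducible φ hφφ).1
    -- f and f' are coprime
    have hcop : IsCoprime f f' := by
      rcases (EuclideanDomain.dvd_or_coprime f f' hirr) with hdvd | hc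
      · exfalso
        have hass : Associated f f' := hirr.associated_of_dvd hf'irr hdvd
        exact hne (eq_of_monic_of_associated hf hf'm hass).symm
      · exact hc
    rw [mul_pow] at h2
    obtain ⟨χ₁, χ₂, h₁, h₂, rfl⟩ := exists_dvd_and_dvd_of_dvd_mul h2
    -- normalise the two factors to monic ones
    obtain ⟨i, _, hi⟩ := (dvd_prime_pow hirr.prime n).1 h₁
    obtain ⟨j, _, hj⟩ := (dvd_prime_pow hf'irr.prime n).1 h₂
    have hass : Associated (χ₁ * χ₂) (f ^ i * f' ^ j) := hi.mul_mul hj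
    have heq : χ₁ * χ₂ = f ^ i * f' ^ j :=
      eq_of_monic_of_associated hχm ((hf.pow i).mul (hf'm.pow j)) hass
    rw [heq] at hχd ⊢
    have h0i : (f ^ i).coeff 0 ≠ 0 := by
      rw [coeff_zero_eq_eval_zero, eval_pow, ← coeff_zero_eq_eval_zero]
      exact pow_ne_zero i hf0
    have h0j : (f' ^ j).coeff 0 ≠ 0 := by
      rw [coeff_zero_eq_eval_zero, eval_pow, ← coeff_zero_eq_eval_zero]
      exact pow_ne_zero j hf'0
    rw [hmul _ _ h0i h0j, pu3_charpow_dagger_pow φ hφφ f hf0 i,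
      pu3_charpow_dagger_pow φ hφφ f' hf'0 j, hf'dd, ← hf'] at hχd
    -- hχd : f' ^ i * f ^ j = f ^ i * f' ^ j
    have hij : i ≤ j := pu3_charpow_le f f' hirr hcop i j (by rw [← hχd]; ring)
    have hji : j ≤ i := pu3_charpow_le f f' hirr hcop j i (by
      have := hχd
      calc f ^ j * f' ^ i = f' ^ i * f ^ j := mul_comm _ _
        _ = f ^ i * f' ^ j := this)
    have : i = j := le_antisymm hij hji
    subst this
    exact ⟨i, (mul_pow f f' i).symm⟩

end poly

end Cfsg.Agent.Helper16.PU3
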