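import Mathlib
import Cfsg.Agent.Lib.Helper10.PUDefs
import Cfsg.Agent.Lib.Helper16.PU3Defs
import Cfsg.Agent.Lib.Helper11.Unitary3
import Cfsg.Agent.Lib.Helper20.EOMINPOLY

/-!
# S2511 piece PU3-DAGADJ (helper12): the adjoint of a polynomial in a unitary matrix.
`((aeval H P).map φ)ᵀ = U * aeval H (dagger φ P)` with `U` a unit, for `IsU φ H`.
-/

set_option autoImplicit false
set_option linter.unusedSectionVars false
set_option linter.unusedVariables false

namespace Cfsg.Agent.Helper16.PU3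

open Polynomial Matrix
open Cfsg.Agent.Helper11.Herm
open Cfsg.Agent.Helper10.PU (dagger Efun wfun)

section mat

variable {F : Type*} [Field F]

/-- twisting: `aeval (H.map φ) (P.map φ) = (aeval H P).map φ` -/
theorem pu3_dagadj_twist (φ : F →+* F) {n : ℕ} (H : Matrix (Fin n) (Fin n) F) (P : F[X]) :
    aeval (H.map φ) (P.map φ) = (aeval H P).map φ := by
  have h : (algebraMap F (Matrix (Fin n) (Fin n) F)).comp φ =
      (φ.mapMatrix).comp (algebraMap F (Matrix (Fin n) (Fin n) F)) := by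
    ext c i j
    simp only [RingHom.comp_apply, Matrix.algebraMap_matrix_apply, RingHom.mapMatrix_apply,
      Matrix.map_apply]
    by_cases hij : i = j
    · simp [hij]
    · simp [hij]
  have h1 := Polynomial.map_aeval_eq_aeval_map h P H
  have h2 : φ.mapMatrix H = H.map φ := rfl
  rw [h2] at h1
  rw [← h1]
  rfl

/-- `Hi ^ k * H ^ (k - j) = Hi ^ j` when `Hi * H = 1` -/
theorem pu3_dagadj_pow {n : ℕ} (H Hi : Matrix (Fin n) (Fin n) F) (h : Hi * H = 1)
    {j k : ℕ} (hjk : j ≤ k) : Hi ^ k * H ^ (k - j) = Hi ^ j := by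
  have hc : Commute Hi H := by
    have h' : H * Hi = 1 := mul_eq_one_comm.1 h
    show Hi * H = H * Hi
    rw [h, h']
  have hk : Hi ^ k = Hi ^ j * Hi ^ (k - j) := by
    rw [← pow_add]; congr 1; omega
  rw [hk, Matrix.mul_assoc, ← hc.mul_pow, h, one_pow, Matrix.mul_one]

/-- PIECE PU3-DAGADJ [L1]. -/
theorem adjoint_aeval (φ : F →+* F) (hφφ : ∀ x, φ (φ x) = x) {n : ℕ}
    (H : Matrix (Fin n) (Fin n) F) (hU : IsU φ H) (P : F[X]) (hP0 : P.coeff 0 ≠ 0) :
    ∃ U : Matrix (Fin n) (Fin n) F, IsUnit U ∧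
      ((aeval H P).map φ)ᵀ = U * aeval H (dagger φ P) := by
  set Hi : Matrix (Fin n) (Fin n) F := (H.map φ)ᵀ with hHi
  have hiH : Hi * H = 1 := by
    have h := congrArg Matrix.transpose hU
    rw [Matrix.transpose_mul, Matrix.transpose_transpose, Matrix.transpose_one] at h
    exact h
  have hHi' : H * Hi = 1 := mul_eq_one_comm.1 hiH
  set Q : F[X] := P.map φ with hQ
  set k : ℕ := Q.natDegree with hk
  have hQ0 : Q.coeff 0 ≠ 0 := by
    rw [hQ, Polynomial.coeff_map]
    intro h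
    apply hP0
    have := congrArg φ h
    rw [hφφ, map_zero] at this
    exact this
  -- step 1
  have h1 : ((aeval H P).map φ)ᵀ = aeval Hi Q := by
    rw [hHi, Cfsg.Agent.Helper10.EO.eo_minpoly_aeval_transpose, pu3_dagadj_twist]
  -- step 2
  have h2 : aeval Hi Q = Hi ^ k * aeval H Q.reverse := by
    rw [Cfsg.Agent.Helper10.EO.eo_minpoly_reflect_sum, Finset.mul_sum,
      aeval_eq_sum_range]
    refine Finset.sum_congr rfl fun j hj => ?_
    have hj' : j ≤ k := Nat.lt_succ_iff.1 (Finset.mem_range.1 hj)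
    rw [Matrix.mul_smul, pu3_dagadj_pow H Hi hiH hj']
  -- step 3
  have h3 : Q.reverse = C (Q.coeff 0) * dagger φ P := by
    unfold dagger Cfsg.Agent.Helper10.EO.star
    rw [← hQ, ← mul_assoc, ← C_mul, mul_inv_cancel₀ hQ0, C_1, one_mul]
  refine ⟨Q.coeff 0 • Hi ^ k, ?_, ?_⟩
  · have hinv : (Q.coeff 0 • Hi ^ k) * ((Q.coeff 0)⁻¹ • H ^ k) = 1 := by
      rw [Matrix.smul_mul, Matrix.mul_smul, smul_smul, mul_inv_cancel₀ hQ0, one_smul]
      have hc : Commute Hi H := by
        show Hi * H = H * Hi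
        rw [hiH, hHi']
      rw [← hc.mul_pow, hiH, one_pow]
    exact IsUnit.of_mul_eq_one _ hinv
  · rw [h1, h2, h3, map_mul, aeval_C, Algebra.algebraMap_eq_smul_one, Matrix.smul_mul,
      Matrix.one_mul, Matrix.mul_smul, Matrix.smul_mul]

end mat

end Cfsg.Agent.Helper16.PU3
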