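import Mathlib
import Cfsg.Agent.Lib.Helper10.PUDefs
import Cfsg.Agent.Lib.Helper24.PUDAG2

/-!
# S2511 piece PU3-DAGMISC (helper20): constant term of `dagger`, `dagger` preserves divisibility
-/

set_option autoImplicit false
set_option linter.unusedSectionVars false
set_option linter.unusedVariables false

namespace Cfsg.Agent.Helper16.PU3

open Polynomial Matrix
open Cfsg.Agent.Helper10.PU (dagger)

section poly

variable {F : Type*} [Field F]

/-- PIECE PU3-DAGMISC [L1] (1/2). -/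
theorem dagger_coeff_zero (φ : F →+* F) (f : F[X]) (hf : f.Monic) (hf0 : f.coeff 0 ≠ 0) :
    (dagger φ f).coeff 0 = (φ (f.coeff 0))⁻¹ := by
  have hm : (f.map φ).Monic := hf.map φ
  unfold dagger Cfsg.Agent.Helper10.EO.star
  rw [coeff_C_mul, coeff_zero_reverse, hm.leadingCoeff, mul_one, coeff_map]

/-- PIECE PU3-DAGMISC (2/2). -/
theorem dagger_dvd (φ : F →+* F) (hφφ : ∀ x, φ (φ x) = x) (f g : F[X]) (hg0 : g.coeff 0 ≠ 0)
    (h : f ∣ g) : dagger φ f ∣ dagger φ g := by
  obtain ⟨k, rfl⟩ := h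
  rw [mul_coeff_zero] at hg0
  have hf0 : f.coeff 0 ≠ 0 := left_ne_zero_of_mul hg0
  have hk0 : k.coeff 0 ≠ 0 := right_ne_zero_of_mul hg0
  rw [(Cfsg.Agent.Helper10.PU.dagger_mul_irreducible φ hφφ).1 f k hf0 hk0]
  exact dvd_mul_right _ _

end poly

end Cfsg.Agent.Helper16.PU3
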