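import Mathlib
import Cfsg.Agent.Lib.Helper10.PUDefs
import Cfsg.Agent.Lib.Helper6.PUDVDB
import Cfsg.Agent.Lib.PU3.PU3NORMROOT

/-!
# S2511, piece PU3-FLDI (helper11, for helper16): a `dagger`-fixed monic irreducible `f` over `F_{q^2}`
divides `X ^ (wfun q e) - C ((-1)^e f(0))`, `e = deg f` (odd).
-/

set_option autoImplicit false
set_option linter.unusedSectionVars false
set_option linter.unusedVariables false

namespace Cfsg.Agent.Helper16.PU3

open Polynomial Matrix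
open Cfsg.Agent.Helper10.PU (dagger Efun wfun)

/-- the geometric sum `1 + q + ... + q^(2k)` is `1` modulo `q + 1`. -/
theorem pu3_fldi_geom (q : ℕ) (k : ℕ) :
    ∃ j : ℕ, ∑ i ∈ Finset.range (2 * k + 1), q ^ i = 1 + (q + 1) * j := by
  induction k with
  | zero => exact ⟨0, by simp⟩
  | succ k ih =>
    obtain ⟨j, hj⟩ := ih
    refine ⟨j + q ^ (2 * k + 1), ?_⟩
    have e1 : 2 * (k + 1) + 1 = (2 * k + 1) + 1 + 1 := by ring
    rw [e1, Finset.sum_range_succ, Finset.sum_range_succ, hj]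
    ring

/-- the arithmetic: `((q^2)^e - 1)/(q^2 - 1) = w + j (q^e + 1)`, `w = (q^e+1)/(q+1)`, for odd `e`. -/
theorem pu3_fldi_arith (q e : ℕ) (hq : 2 ≤ q) (he : Odd e) :
    ∃ j : ℕ, ((q ^ 2) ^ e - 1) / (q ^ 2 - 1) = (q ^ e + 1) / (q + 1) + j * (q ^ e + 1) := by
  obtain ⟨k, rfl⟩ := he
  obtain ⟨j, hj⟩ := pu3_fldi_geom q k
  set e := 2 * k + 1 with he
  set s := ∑ i ∈ Finset.range e, q ^ i with hs
  have hdvd : q + 1 ∣ q ^ e + 1 := by
    have h := Odd.nat_add_dvd_pow_add_pow q 1 (n := e) ⟨k, rfl⟩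
    rwa [one_pow] at h
  obtain ⟨w, hw⟩ := hdvd
  have hwdiv : (q ^ e + 1) / (q + 1) = w := by
    rw [hw]
    exact Nat.mul_div_cancel_left w (Nat.succ_pos q)
  have h1 : (s : ℤ) * ((q : ℤ) - 1) = (q : ℤ) ^ e - 1 := by
    rw [hs]
    push_cast
    exact geom_sum_mul (q : ℤ) e
  have h2 : ((q : ℤ) + 1) * w = (q : ℤ) ^ e + 1 := by
    exact_mod_cast hw.symm
  have hq2 : 1 ≤ q ^ 2 := Nat.one_le_pow _ _ (by omega)
  have hq2e : 1 ≤ (q ^ 2) ^ e := Nat.one_le_pow _ _ (by positivity)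
  have hpos : 0 < q ^ 2 - 1 := by
    have : 2 ^ 2 ≤ q ^ 2 := Nat.pow_le_pow_left hq 2
    omega
  have hG : ((q ^ 2) ^ e - 1) / (q ^ 2 - 1) = s * w := by
    apply Nat.div_eq_of_eq_mul_right hpos
    zify [hq2, hq2e]
    linear_combination (-(((q : ℤ) + 1) * w)) * h1 + (-((q : ℤ) ^ e - 1)) * h2
  refine ⟨j, ?_⟩
  rw [hG, hwdiv, hj, hw]
  ring

section finpoly

variable {F : Type*} [Field F] [Fintype F] {q : ℕ}

/-- PIECE PU3-FLDI [L2: root_pow_eq_coeff_zero + landed `dagger_fixed_irreducible`]. -/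
theorem dagger_fixed_dvd (hF : Fintype.card F = q ^ 2) (φ : F →+* F) (hφ : ∀ x, φ x = x ^ q)
    (f : F[X]) (hf : f.Monic) (hirr : Irreducible f) (hf0 : f.coeff 0 ≠ 0)
    (hdag : dagger φ f = f) :
    f ∣ X ^ (wfun q f.natDegree) - C ((-1) ^ f.natDegree * f.coeff 0) := by
  obtain ⟨hodd, hE⟩ :=
    Cfsg.Agent.Helper10.PU.dagger_fixed_irreducible q hF φ hφ f hf hirr hf0 hdag
  have hq : 2 ≤ q := by
    have h1 : 1 < Fintype.card F := Fintype.one_lt_card
    rw [hF] at h1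
    by_contra hlt
    have hlt' : q < 2 := Nat.lt_of_not_le hlt
    interval_cases q <;> simp at h1
  have hN := root_pow_eq_coeff_zero f hf hirr
  rw [hF] at hN
  obtain ⟨j, hj⟩ := pu3_fldi_arith q f.natDegree hq hodd
  rw [hj] at hN
  have hw : wfun q f.natDegree = (q ^ f.natDegree + 1) / (q + 1) := by
    unfold Cfsg.Agent.Helper10.PU.wfun Cfsg.Agent.Helper10.PU.Efun
    rw [if_neg (Nat.not_even_iff_odd.2 hodd)]
  rw [hw]
  set w := (q ^ f.natDegree + 1) / (q + 1) with hwdef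
  set E := q ^ f.natDegree + 1 with hEdef
  set N : F := (-1) ^ f.natDegree * f.coeff 0 with hNdef
  have h3 : f ∣ (X ^ E) ^ j - 1 := by
    have h := sub_dvd_pow_sub_pow (X ^ E : F[X]) 1 j
    rw [one_pow] at h
    exact hE.trans h
  have h4 : (X : F[X]) ^ w - C N = (X ^ (w + j * E) - C N) - X ^ w * ((X ^ E) ^ j - 1) := by
    rw [pow_add, ← pow_mul, mul_comm j E]
    ring
  rw [h4]
  exact dvd_sub hN (dvd_mul_of_dvd_right h3 _)

end finpoly

end Cfsg.Agent.Helper16.PU3
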