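import Mathlib
import Cfsg.Agent.Lib.Helper10.PUDefs
import Cfsg.Agent.Lib.PU3.PU3NORMROOT

/-!
# S2511, piece PU3-FLDII (helper6, for helper16): a monic irreducible `f` of degree `e` over `F_{q^2}`
with `f(0) ≠ 0` divides `X ^ (q^(2e) - 1) - 1` and `X ^ ((q^(2e) - 1)/(q+1)) - C (f(0)^(q-1))`.
-/

set_option autoImplicit false
set_option linter.unusedSectionVars false
set_option linter.unusedVariables false

namespace Cfsg.Agent.Helper16.PU3

open Polynomial Matrix
open Cfsg.Agent.Helper10.PU (dagger Efun wfun)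

/-- `f ∣ X^N - C ν` gives `f ∣ X^(N k) - C (ν^k)`. -/
theorem pu3_fldii_pow {F : Type*} [Field F] (f : F[X]) (N k : ℕ) (ν : F)
    (h : f ∣ X ^ N - C ν) : f ∣ X ^ (N * k) - C (ν ^ k) := by
  have h1 := sub_dvd_pow_sub_pow (X ^ N : F[X]) (C ν) k
  rw [← pow_mul, ← C_pow] at h1
  exact h.trans h1

section finpoly

variable {F : Type*} [Field F] [Fintype F] {q : ℕ}

/-- `(-1)^(q-1) = 1` in a field with `q^2` elements. -/
theorem pu3_fldii_neg_one (hF : Fintype.card F = q ^ 2) : ((-1 : F)) ^ (q - 1) = 1 := by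
  have hq : 2 ≤ q := by
    have h1 : 1 < Fintype.card F := Fintype.one_lt_card
    rw [hF] at h1
    by_contra hlt
    have hlt' : q < 2 := Nat.lt_of_not_le hlt
    interval_cases q <;> simp at h1
  rcases Nat.even_or_odd q with he | ho
  · -- characteristic two
    obtain ⟨p, hchar⟩ := CharP.exists F
    obtain ⟨n, hp, hcard⟩ := FiniteField.card F p
    have h2 : 2 ∣ p ^ (n : ℕ) := by
      rw [← hcard, hF]
      exact Dvd.dvd.pow he.two_dvd (by norm_num)
    have h3 : 2 ∣ p := Nat.Prime.dvd_of_dvd_pow Nat.prime_two h2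
    have h4 : 2 = p := (Nat.prime_dvd_prime_iff_eq Nat.prime_two hp).1 h3
    subst h4
    have h5 : (-1 : F) = 1 := by
      have : (2 : F) = 0 := by
        have := CharP.cast_eq_zero F 2
        exact_mod_cast this
      linear_combination (-1 : F) * this
    rw [h5, one_pow]
  · have hev : Even (q - 1) := by
      obtain ⟨k, hk⟩ := ho
      exact ⟨k, by omega⟩
    exact hev.neg_one_pow

/-- PIECE PU3-FLDII [L2: root_pow_eq_coeff_zero]. -/
theorem pair_dvd (hF : Fintype.card F = q ^ 2) (f : F[X]) (hf : f.Monic) (hirr : Irreducible f)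
    (hf0 : f.coeff 0 ≠ 0) :
    f ∣ X ^ (Efun q (2 * f.natDegree)) - 1 ∧
    f ∣ X ^ (wfun q (2 * f.natDegree)) - C (f.coeff 0 ^ (q - 1)) := by
  have hq : 2 ≤ q := by
    have h1 : 1 < Fintype.card F := Fintype.one_lt_card
    rw [hF] at h1
    by_contra hlt
    have hlt' : q < 2 := Nat.lt_of_not_le hlt
    interval_cases q <;> simp at h1
  have hN := root_pow_eq_coeff_zero f hf hirr
  rw [hF] at hN
  set e := f.natDegree with he
  set N₀ := ((q ^ 2) ^ e - 1) / (q ^ 2 - 1) with hN₀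
  set ν : F := (-1) ^ e * f.coeff 0 with hν
  have hν0 : ν ≠ 0 := mul_ne_zero (pow_ne_zero _ (neg_ne_zero.mpr one_ne_zero)) hf0
  -- arithmetic
  have hdvd : q ^ 2 - 1 ∣ (q ^ 2) ^ e - 1 := Nat.sub_one_dvd_pow_sub_one (q ^ 2) e
  have hmul : N₀ * (q ^ 2 - 1) = (q ^ 2) ^ e - 1 := Nat.div_mul_cancel hdvd
  have hE : Efun q (2 * e) = (q ^ 2) ^ e - 1 := by
    unfold Cfsg.Agent.Helper10.PU.Efun
    rw [if_pos (even_two_mul e), pow_mul]
  have hq21 : q ^ 2 - 1 = (q - 1) * (q + 1) := by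
    have h1 : 1 ≤ q := by omega
    have h2 : 1 ≤ q ^ 2 := Nat.one_le_pow _ _ h1
    zify [h1, h2]
    ring
  have hw : wfun q (2 * e) = N₀ * (q - 1) := by
    unfold Cfsg.Agent.Helper10.PU.wfun
    rw [hE, ← hmul, hq21, ← mul_assoc]
    exact Nat.mul_div_cancel _ (Nat.succ_pos q)
  refine ⟨?_, ?_⟩
  · rw [hE, ← hmul]
    have h1 := pu3_fldii_pow f N₀ (q ^ 2 - 1) ν hN
    have h2 : ν ^ (q ^ 2 - 1) = 1 := by
      have := FiniteField.pow_card_sub_one_eq_one ν hν0
      rwa [hF] at this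
    rw [h2, C_1] at h1
    exact h1
  · rw [hw]
    have h1 := pu3_fldii_pow f N₀ (q - 1) ν hN
    have h2 : ν ^ (q - 1) = f.coeff 0 ^ (q - 1) := by
      rw [hν, mul_pow, ← pow_mul, mul_comm e (q - 1), pow_mul, pu3_fldii_neg_one hF, one_pow,
        one_mul]
    rw [h2] at h1
    exact h1

end finpoly

end Cfsg.Agent.Helper16.PU3
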