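import Mathlib
import Cfsg.Agent.Lib.Helper21.PL3Defs
import Cfsg.Agent.Lib.PL3.PL3LCM

/-!
# S2511 piece PU3-GOALB (helper1): the generic two-element goal.
-/

set_option autoImplicit false
set_option linter.unusedSectionVars false
set_option linter.unusedVariables false

namespace Cfsg.Agent.Helper16.PU3

open Polynomial Matrix
open Cfsg.Agent.Helper21.PL3 (Good)

/-- an element of order `M` has powers of every order dividing `M` -/
theorem pu3_goalb_dvd {L : Type*} [Group L] (y : L) (M c : ℕ) (h : orderOf y = M) (hc : c ∣ M)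
    (hM : 0 < M) : ∃ z : L, orderOf z = c := by
  obtain ⟨k, hk⟩ := hc
  refine ⟨y ^ k, ?_⟩
  have hk0 : k ≠ 0 := by rintro rfl; omega
  rw [orderOf_pow_of_dvd hk0 (by rw [h, hk]; exact Dvd.intro_left _ rfl), h, hk,
    Nat.mul_div_cancel _ (Nat.pos_of_ne_zero hk0)]

theorem pu3_goalb_lcm_pow (p : ℕ) (hp : p.Prime) (t C : ℕ) (hC : ¬ p ∣ C) :
    Nat.lcm (p ^ t) C = p ^ t * C :=
  Nat.Coprime.lcm_eq_mul (Nat.Coprime.pow_left t ((Nat.Prime.coprime_iff_not_dvd hp).2 hC))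

/-- PIECE PU3-GOALB [L1]. -/
theorem goalB_gen {L : Type*} [Group L] [Finite L] (p r M : ℕ) (hp : p.Prime) (hr : r.Prime)
    (hpr : p ≠ r)
    (hkey : ∀ x : L, ¬ Good r x → ∃ t c : ℕ, orderOf x = p ^ t * c ∧ ¬ p ∣ c ∧ c ∣ M)
    (htor : ∃ y : L, orderOf y = M) (hord : ∃ y : L, orderOf y = r)
    (hunip : ∀ (x : L) (t : ℕ), 1 ≤ t → p ^ t ∣ orderOf x → ∃ y : L, orderOf y = p ^ t * r)
    (x1 x2 : L) :
    ∃ y1 y2 : L, Nat.lcm (orderOf y1) (orderOf y2) =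
      Nat.lcm (Nat.lcm (orderOf x1) (orderOf x2)) r := by
  by_cases h1 : Good r x1
  · obtain ⟨y, hy⟩ := h1
    refine ⟨y, x2, ?_⟩
    rw [hy]
    ac_rfl
  by_cases h2 : Good r x2
  · obtain ⟨y, hy⟩ := h2
    refine ⟨x1, y, ?_⟩
    rw [hy]
    ac_rfl
  obtain ⟨t1, c1, ho1, hp1, hd1⟩ := hkey x1 h1
  obtain ⟨t2, c2, ho2, hp2, hd2⟩ := hkey x2 h2
  obtain ⟨y0, hy0⟩ := htor
  have hM : 0 < M := by rw [← hy0]; exact orderOf_pos y0
  obtain ⟨yC, hyC⟩ := pu3_goalb_dvd y0 _ (Nat.lcm c1 c2) hy0 (Nat.lcm_dvd hd1 hd2) hM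
  have hC : ¬ p ∣ Nat.lcm c1 c2 :=
    Cfsg.Agent.Helper21.PL3.pl3_lcm_not_dvd p hp _ _ hp1 hp2
  have hpr' : ¬ p ∣ r := fun h => hpr ((Nat.prime_dvd_prime_iff_eq hp hr).1 h)
  -- an element whose order is `lcm (p ^ t) r`, `t = max t1 t2`
  have hyp : ∃ y : L, orderOf y = Nat.lcm (p ^ (max t1 t2)) r := by
    rcases Nat.eq_zero_or_pos (max t1 t2) with h0 | hpos
    · rw [h0, pow_zero, Nat.lcm_one_left]
      exact hord
    · have hdv : ∃ x : L, p ^ (max t1 t2) ∣ orderOf x := by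
        rcases max_choice t1 t2 with h | h
        · exact ⟨x1, by rw [h, ho1]; exact Dvd.intro _ rfl⟩
        · exact ⟨x2, by rw [h, ho2]; exact Dvd.intro _ rfl⟩
      obtain ⟨x, hxd⟩ := hdv
      obtain ⟨y, hy⟩ := hunip x (max t1 t2) hpos hxd
      exact ⟨y, by rw [hy, pu3_goalb_lcm_pow p hp _ _ hpr']⟩
  obtain ⟨yp, hyp⟩ := hyp
  refine ⟨yp, yC, ?_⟩
  rw [hyp, hyC, ho1, ho2, Cfsg.Agent.Helper21.PL3.lcm_two p hp t1 t2 c1 c2 hp1 hp2,
    ← pu3_goalb_lcm_pow p hp _ _ hC]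
  ac_rfl

end Cfsg.Agent.Helper16.PU3
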