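import Mathlib
import Cfsg.Prelude.Def_Classical
import Cfsg.Agent.Lib.Helper10.PUDefs
import Cfsg.Agent.Lib.Helper21.PL3Defs
import Cfsg.Agent.Lib.Helper16.PU3Defs
import Cfsg.Agent.Lib.Helper11.Unitary3
import Cfsg.Agent.Lib.PL3.PL3GOODDEC

/-!
# S2511, piece PU3-GOODDEC: an element of `SU_n(q)` commuting with a non-trivial hermitian idempotent is good.
-/

set_option autoImplicit false
set_option linter.unusedSectionVars false
set_option linter.unusedVariables false

namespace Cfsg.Agent.Helper16.PU3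

open Polynomial Matrix
open Cfsg.Agent.Helper11.Herm
open Cfsg.Agent.Helper10.PU (dagger Efun wfun)
open Cfsg.Agent.Helper21.PL3 (Good)

section fin

variable {F : Type*} [Field F] [Fintype F] {q : ℕ}

open Cfsg.Agent.Helper21.PL3 in
theorem pu3_gooddec_t_map {n : ℕ} (φ : F →+* F) (e : Matrix (Fin n) (Fin n) F) (α β : F) :
    (pl3_gooddec_t e α β).map φ = pl3_gooddec_t (e.map φ) (φ α) (φ β) := by
  unfold pl3_gooddec_t
  ext i j
  simp only [Matrix.map_apply, Matrix.add_apply, Matrix.smul_apply, Matrix.sub_apply,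
    smul_eq_mul, map_add, map_mul, map_sub]
  congr 2
  by_cases hij : i = j
  · subst hij; simp
  · simp [Matrix.one_apply_ne hij]

open Cfsg.Agent.Helper21.PL3 in
theorem pu3_gooddec_t_transpose {n : ℕ} (e : Matrix (Fin n) (Fin n) F) (α β : F) :
    (pl3_gooddec_t e α β)ᵀ = pl3_gooddec_t eᵀ α β := by
  unfold pl3_gooddec_t
  rw [Matrix.transpose_add, Matrix.transpose_smul, Matrix.transpose_smul, Matrix.transpose_sub,
    Matrix.transpose_one]

open Cfsg.Agent.Helper21.PL3 in
theorem pu3_gooddec_isU {n : ℕ} (φ : F →+* F) {e : Matrix (Fin n) (Fin n) F} (he : e * e = e)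
    (heh : eᵀ = e.map φ) {α β : F} (hα : α * φ α = 1) (hβ : β * φ β = 1) :
    IsU φ (pl3_gooddec_t e α β) := by
  unfold IsU
  have he' : e.map φ * e.map φ = e.map φ := by
    rw [← heh, ← Matrix.transpose_mul, he]
  rw [pu3_gooddec_t_map, pu3_gooddec_t_transpose, heh, pl3_gooddec_t_mul he', hα, hβ,
    pl3_gooddec_t_one]

open Cfsg.Agent.Helper21.PL3 in
/-- PIECE PU3-GOODDEC [L2: mk_pow_eq_one_iff]. -/
theorem good_of_herm_idempotent (hF : Fintype.card F = q ^ 2) (φ : F →+* F)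
    (hφ : ∀ x, φ x = x ^ q) (n r : ℕ) (hr : r.Prime) (hrq : r ∣ q + 1) (hrn : ¬ r ∣ n)
    (g : Cfsg.SU n F q) (e : Matrix (Fin n) (Fin n) F) (he : e * e = e) (he0 : e ≠ 0)
    (he1 : e ≠ 1) (heh : eᵀ = e.map φ)
    (hc : Commute e ((g : Matrix.SpecialLinearGroup (Fin n) F) : Matrix (Fin n) (Fin n) F)) :
    Good r (QuotientGroup.mk g : Cfsg.PSU n F q) := by
  classical
  have hrf : Fact r.Prime := ⟨hr⟩
  have hq2 : 2 ≤ q := two_le_q hF
  have hrq' : r ∣ Fintype.card F - 1 := by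
    rw [hF]
    have h1 : q ^ 2 - 1 = (q + 1) * (q - 1) := by
      obtain ⟨k, rfl⟩ : ∃ k, q = k + 1 := ⟨q - 1, by omega⟩
      have : (k + 1) ^ 2 - 1 = (k + 1 + 1) * k := by
        have : (k + 1) ^ 2 = (k + 1 + 1) * k + 1 := by ring
        omega
      rw [this]; rfl
    rw [h1]
    exact Dvd.dvd.mul_right hrq _
  obtain ⟨α, β, hα, hβ, hne, hdet⟩ := pl3_gooddec_exists r hr hrq' he
  have hnorm : ∀ a : F, a ^ r = 1 → a * φ a = 1 := by
    intro a ha
    obtain ⟨k, hk⟩ := hrq
    rw [hφ, ← pow_succ', hk, pow_mul, ha, one_pow]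
  -- `n ≥ 1`
  have hn : 0 < n := by
    rcases Nat.eq_zero_or_pos n with h0 | h0
    · subst h0
      exact absurd (Subsingleton.elim e 0) he0
    · exact h0
  set t : Cfsg.SU n F q := mkSU hF n (pl3_gooddec_t e α β) hdet (fun φ' hφ' => by
    have : φ' = φ := RingHom.ext (fun x => by rw [hφ', hφ])
    rw [this]
    exact pu3_gooddec_isU φ he heh (hnorm α hα) (hnorm β hβ)) with ht
  have htcoe : ((t : Matrix.SpecialLinearGroup (Fin n) F) : Matrix (Fin n) (Fin n) F) =
      pl3_gooddec_t e α β := rfl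
  have hpowcoe : ∀ (a : Cfsg.SU n F q) (k : ℕ),
      (((a ^ k : Cfsg.SU n F q) : Matrix.SpecialLinearGroup (Fin n) F) :
        Matrix (Fin n) (Fin n) F) =
      ((a : Matrix.SpecialLinearGroup (Fin n) F) : Matrix (Fin n) (Fin n) F) ^ k := by
    intro a k
    induction k with
    | zero => rfl
    | succ k ih => rw [pow_succ, pow_succ, SU_mul_coe, ih]
  have htr : t ^ r = 1 := by
    apply SU_ext
    rw [hpowcoe, htcoe, pl3_gooddec_t_pow he, hα, hβ, pl3_gooddec_t_one]
    rfl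
  have htg : Commute t g := by
    apply SU_ext
    rw [SU_mul_coe, SU_mul_coe, htcoe]
    exact pl3_gooddec_t_commute hc α β
  have htc : t ∉ Subgroup.center (Cfsg.SU n F q) := by
    intro hmem
    have hsc := center_SU_scalar hF n ⟨0, hn⟩ t hmem
    rw [htcoe] at hsc
    set lam : F := pl3_gooddec_t e α β ⟨0, hn⟩ ⟨0, hn⟩ with hlam
    obtain ⟨h1, h2⟩ := pl3_gooddec_t_scalar he he0 he1 hsc
    have hlr : lam ^ r = 1 := by rw [← h1]; exact hα
    have hln : lam ^ n = 1 := by
      have := hdet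
      rw [hsc, Matrix.det_smul, Matrix.det_one, mul_one, Fintype.card_fin] at this
      exact this
    have hl1 : lam = 1 := by
      have hcop : Nat.Coprime r n := (Nat.Prime.coprime_iff_not_dvd hr).2 hrn
      have ho1 : orderOf lam ∣ r := orderOf_dvd_of_pow_eq_one hlr
      have ho2 : orderOf lam ∣ n := orderOf_dvd_of_pow_eq_one hln
      have : orderOf lam ∣ 1 := by
        have := Nat.dvd_gcd ho1 ho2
        rwa [hcop] at this
      exact orderOf_eq_one_iff.1 (Nat.dvd_one.1 this)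
    exact hne ⟨h1.trans hl1, h2.trans hl1⟩
  set y : Cfsg.PSU n F q := QuotientGroup.mk t with hy
  set x : Cfsg.PSU n F q := QuotientGroup.mk g with hx
  have hyr : y ^ r = 1 := by
    rw [hy, ← QuotientGroup.mk_pow, htr]; rfl
  have hy1 : y ≠ 1 := by
    intro h
    exact htc ((QuotientGroup.eq_one_iff t).1 h)
  have hyo : orderOf y = r := orderOf_eq_prime hyr hy1
  have hxy : Commute x y := by
    show x * y = y * x
    rw [hx, hy, ← QuotientGroup.mk_mul, ← QuotientGroup.mk_mul, htg.eq]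
  by_cases hdiv : r ∣ orderOf x
  · exact ⟨x, (Nat.lcm_eq_left hdiv).symm⟩
  · have hcop : Nat.Coprime (orderOf x) (orderOf y) := by
      rw [hyo]; exact ((Nat.Prime.coprime_iff_not_dvd hr).2 hdiv).symm
    refine ⟨x * y, ?_⟩
    rw [hxy.orderOf_mul_eq_mul_orderOf_of_coprime hcop, hyo]
    rw [hyo] at hcop
    exact hcop.lcm_eq_mul.symm

end fin

end Cfsg.Agent.Helper16.PU3
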