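import Mathlib
import Cfsg.Prelude.Def_Classical
import Cfsg.Agent.Lib.Helper10.PUDefs
import Cfsg.Agent.Lib.Helper21.PL3Defs
import Cfsg.Agent.Lib.Helper16.PU3Defs
import Cfsg.Agent.Lib.Helper16.PUEDefs
import Cfsg.Agent.Lib.PUE.PUEGRAM

/-!
# S2511 piece PU3-GRAM2 (helper3): the Gram matrix of the twisted trace form, for all `ζ` at once.
-/

set_option autoImplicit false
set_option linter.unusedSectionVars false
set_option linter.unusedVariables false

namespace Cfsg.Agent.Helper16.PU3

open Polynomial Matrix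

section fld

universe u

variable {F : Type u} [Field F] (φ : F →+* F) {K : Type} [Field K] [Algebra F K]
  [FiniteDimensional F K]

/-- PIECE PU3-GRAM2 [L1]. -/
theorem exists_gram_all [Algebra.IsSeparable F K] (τ : K →+* K)
    (hτF : ∀ a : F, τ (algebraMap F K a) = algebraMap F K (φ a)) (hττ : ∀ x, τ (τ x) = x)
    (htr : ∀ z : K, φ (Algebra.trace F K z) = Algebra.trace F K (τ z))
    {ι : Type} [Fintype ι] [DecidableEq ι] (b : Module.Basis ι F K) :
    ∃ H : Matrix ι ι F, H.map φ = Hᵀ ∧ H.det ≠ 0 ∧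
      ∀ ζ : K, ζ * τ ζ = 1 →
        (Algebra.leftMulMatrix b ζ)ᵀ * H * (Algebra.leftMulMatrix b ζ).map φ = H := by
  have hφφ : ∀ a : F, φ (φ a) = a := by
    intro a
    apply (algebraMap F K).injective
    rw [← hτF, ← hτF, hττ]
  set H : Matrix ι ι F := Matrix.of fun i j => Algebra.trace F K (b i * τ (b j)) with hH
  have hHapp : ∀ i j, H i j = Algebra.trace F K (b i * τ (b j)) := fun i j => rfl
  have hform : ∀ x y : K, Algebra.trace F K (x * τ y) =
      ∑ i, ∑ k, b.repr x i * H i k * φ (b.repr y k) :=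
    Cfsg.Agent.Helper10.PU.pue_gram_form φ τ hτF b
  refine ⟨H, ?_, ?_, ?_⟩
  · -- Hermitian
    ext i j
    rw [Matrix.map_apply, Matrix.transpose_apply, hHapp, hHapp, htr, map_mul, hττ, mul_comm]
  · -- `det H ≠ 0`
    intro hdet
    obtain ⟨v, hv0, hv⟩ := Matrix.exists_mulVec_eq_zero_iff.2 hdet
    set y : K := ∑ j, φ (v j) • b j with hy
    have hrepr : ∀ k, b.repr y k = φ (v k) := by
      intro k
      have := b.repr_sum_self (fun j => φ (v j))
      exact congrFun this k
    have hall : ∀ x : K, Algebra.trace F K (x * τ y) = 0 := by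
      intro x
      rw [hform]
      refine Finset.sum_eq_zero fun i _ => ?_
      have h1 : ∑ k, b.repr x i * H i k * φ (b.repr y k) = b.repr x i * ∑ k, H i k * v k := by
        rw [Finset.mul_sum]
        refine Finset.sum_congr rfl fun k _ => ?_
        rw [hrepr, hφφ, mul_assoc]
      have h2 : ∑ k, H i k * v k = 0 := congrFun hv i
      rw [h1, h2, mul_zero]
    have hτy : τ y = 0 :=
      (traceForm_nondegenerate F K).2 (τ y) fun x => by
        rw [Algebra.traceForm_apply]; exact hall x
    have hy0 : y = 0 := by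
      rw [← hττ y, hτy, map_zero]
    apply hv0
    ext k
    have h3 : φ (v k) = 0 := by
      rw [← hrepr, hy0, map_zero]; rfl
    exact (map_eq_zero φ).1 h3
  · -- invariance
    intro ζ hζ
    have hA : ∀ i j, Algebra.leftMulMatrix b ζ i j = b.repr (ζ * b j) i :=
      Algebra.leftMulMatrix_eq_repr_mul b ζ
    ext j l
    have h1 := hform (ζ * b j) (ζ * b l)
    have h2 : ζ * b j * τ (ζ * b l) = b j * τ (b l) := by
      rw [map_mul]
      calc ζ * b j * (τ ζ * τ (b l)) = (ζ * τ ζ) * (b j * τ (b l)) := by ring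
        _ = b j * τ (b l) := by rw [hζ, one_mul]
    rw [h2] at h1
    rw [hHapp j l, h1, Matrix.mul_apply, Finset.sum_comm]
    refine Finset.sum_congr rfl fun k _ => ?_
    rw [Matrix.mul_apply, Finset.sum_mul]
    refine Finset.sum_congr rfl fun i _ => ?_
    rw [Matrix.transpose_apply, Matrix.map_apply, hA, hA]

end fld

end Cfsg.Agent.Helper16.PU3
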