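import Mathlib
import Cfsg.Prelude.Def_Classical
import Cfsg.Agent.Lib.Helper10.PUDefs
import Cfsg.Agent.Lib.Helper21.PL3Defs
import Cfsg.Agent.Lib.Helper16.PU3Defs
import Cfsg.Agent.Lib.Helper16.PUEDefs
import Cfsg.Agent.Lib.Helper11.Unitary3
import Cfsg.Agent.Lib.Helper11.UnitaryGeom
import Cfsg.Agent.Lib.PU3.PU3DAGADJ

/-!
# S2511 piece PU3-HERMIDEM (helper3): a coprime dagger-fixed splitting of the minimal polynomial
gives a nontrivial hermitian idempotent which is a polynomial in `H`.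
-/

set_option autoImplicit false
set_option linter.unusedSectionVars false
set_option linter.unusedVariables false

namespace Cfsg.Agent.Helper16.PU3

open Polynomial Matrix
open Cfsg.Agent.Helper11.Herm
open Cfsg.Agent.Helper10.PU (dagger Efun wfun)
open Cfsg.Agent.Helper21.PL3 (Good)

section mat

variable {F : Type*} [Field F]

/-- polynomials in `H` commute with everything that commutes with `H`. -/
theorem pu3_hermidem_commute {n : ℕ} (H g : Matrix (Fin n) (Fin n) F) (hg : Commute g H)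
    (P : F[X]) : Commute (aeval H P) g := by
  rw [Polynomial.aeval_eq_sum_range]
  refine Commute.sum_left _ _ _ fun i _ => ?_
  exact (hg.symm.pow_left i).smul_left _

/-- the conjugate transpose is anti-multiplicative. -/
theorem pu3_hermidem_dag_mul (φ : F →+* F) {n : ℕ} (A B : Matrix (Fin n) (Fin n) F) :
    ((A * B).map φ)ᵀ = (B.map φ)ᵀ * (A.map φ)ᵀ := by
  rw [Matrix.map_mul, Matrix.transpose_mul]

/-- PIECE PU3-HERMIDEM [L2: adjoint_aeval]. -/
theorem exists_herm_idempotent (φ : F →+* F) (hφφ : ∀ x, φ (φ x) = x) {n : ℕ}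
    (H : Matrix (Fin n) (Fin n) F) (hU : IsU φ H) (ν ρ : F[X]) (hμ : minpoly F H = ν * ρ)
    (hcop : IsCoprime ν ρ) (hν0 : ν.coeff 0 ≠ 0) (hρ0 : ρ.coeff 0 ≠ 0) (hνd : dagger φ ν = ν)
    (hρd : dagger φ ρ = ρ) (hνdeg : 0 < ν.natDegree) (hρdeg : 0 < ρ.natDegree) :
    ∃ e : Matrix (Fin n) (Fin n) F, e * e = e ∧ e ≠ 0 ∧ e ≠ 1 ∧ eᵀ = e.map φ ∧
      ∀ g : Matrix (Fin n) (Fin n) F, Commute g H → Commute e g := by
  obtain ⟨a, b, hab⟩ := hcop
  have hν_ne : ν ≠ 0 := by
    intro h; rw [h] at hν0; simp at hν0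
  have hρ_ne : ρ ≠ 0 := by
    intro h; rw [h] at hρ0; simp at hρ0
  have hmin0 : aeval H (ν * ρ) = 0 := by rw [← hμ]; exact minpoly.aeval F H
  set e : Matrix (Fin n) (Fin n) F := aeval H (a * ν) with he
  set e' : Matrix (Fin n) (Fin n) F := aeval H (b * ρ) with he'
  have hsum : e + e' = 1 := by
    rw [he, he', ← map_add, hab, map_one]
  have hprod : e * e' = 0 := by
    rw [he, he', ← map_mul]
    have : a * ν * (b * ρ) = (a * b) * (ν * ρ) := by ring
    rw [this, map_mul, hmin0, mul_zero]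
  have he'eq : e' = 1 - e := by rw [← hsum]; abel
  have hidem : e * e = e := by
    have h1 : e * e = e * (1 - e') := by
      congr 1
      rw [← hsum]; abel
    rw [h1, mul_sub, mul_one, hprod, sub_zero]
  have heρ : e * aeval H ρ = 0 := by
    rw [he, ← map_mul]
    have : a * ν * ρ = a * (ν * ρ) := by ring
    rw [this, map_mul, hmin0, mul_zero]
  have he'ν : e' * aeval H ν = 0 := by
    rw [he', ← map_mul]
    have : b * ρ * ν = b * (ν * ρ) := by ring
    rw [this, map_mul, hmin0, mul_zero]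
  have hne0 : e ≠ 0 := by
    intro h0
    have h1 : minpoly F H ∣ a * ν := minpoly.dvd F H (by rw [← he]; exact h0)
    rw [hμ] at h1
    have h2 : ρ ∣ a := by
      have : ν * ρ ∣ ν * a := by rwa [mul_comm ν a]
      exact (mul_dvd_mul_iff_left hν_ne).1 this
    have h3 : ρ ∣ 1 := by
      rw [← hab]
      exact dvd_add (dvd_mul_of_dvd_left h2 ν) (dvd_mul_left ρ b)
    have h4 := Polynomial.natDegree_eq_zero_of_isUnit (isUnit_of_dvd_one h3)
    omega
  have hne1 : e ≠ 1 := by
    intro h1'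
    have h0 : e' = 0 := by rw [he'eq, h1', sub_self]
    have h1 : minpoly F H ∣ b * ρ := minpoly.dvd F H (by rw [← he']; exact h0)
    rw [hμ] at h1
    have h2 : ν ∣ b := by
      have : ρ * ν ∣ ρ * b := by rwa [mul_comm ρ b, mul_comm ρ ν]
      exact (mul_dvd_mul_iff_left hρ_ne).1 this
    have h3 : ν ∣ 1 := by
      rw [← hab]
      exact dvd_add (dvd_mul_left ν a) (dvd_mul_of_dvd_left h2 ρ)
    have h4 := Polynomial.natDegree_eq_zero_of_isUnit (isUnit_of_dvd_one h3)
    omega
  -- hermitian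
  set E' : Matrix (Fin n) (Fin n) F := (e.map φ)ᵀ with hE'
  obtain ⟨U, hUunit, hUeq⟩ := adjoint_aeval φ hφφ H hU ρ hρ0
  obtain ⟨U', hU'unit, hU'eq⟩ := adjoint_aeval φ hφφ H hU ν hν0
  rw [hρd] at hUeq
  rw [hνd] at hU'eq
  have h1 : aeval H ρ * E' = 0 := by
    have h2 : ((e * aeval H ρ).map φ)ᵀ = 0 := by
      rw [heρ]; ext i j; simp
    rw [pu3_hermidem_dag_mul, hUeq, mul_assoc] at h2
    exact (hUunit.mul_right_eq_zero).1 h2
  have h2 : aeval H ν * E' = aeval H ν := by
    have h3 : ((e' * aeval H ν).map φ)ᵀ = 0 := by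
      rw [he'ν]; ext i j; simp
    have h4 : (e'.map φ)ᵀ = 1 - E' := by
      rw [he'eq, hE']
      ext i j
      simp [Matrix.one_apply, Matrix.sub_apply]
      split_ifs with hij hji hji
      · simp
      · exact absurd hij.symm hji
      · exact absurd hji.symm hij
      · simp
    rw [pu3_hermidem_dag_mul, hU'eq, h4, mul_assoc] at h3
    have h5 := (hU'unit.mul_right_eq_zero).1 h3
    rw [mul_sub, mul_one, sub_eq_zero] at h5
    exact h5.symm
  have hEe : E' = e := by
    calc E' = (aeval H (a * ν + b * ρ)) * E' := by rw [hab, map_one, one_mul]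
      _ = aeval H a * (aeval H ν * E') + aeval H b * (aeval H ρ * E') := by
          rw [map_add, map_mul, map_mul, add_mul, mul_assoc, mul_assoc]
      _ = aeval H a * aeval H ν := by rw [h1, h2, mul_zero, add_zero]
      _ = e := by rw [he, map_mul]
  refine ⟨e, hidem, hne0, hne1, ?_, ?_⟩
  · have := congrArg Matrix.transpose hEe
    rw [hE', Matrix.transpose_transpose] at this
    exact this.symm
  · intro g hg
    exact pu3_hermidem_commute H g hg (a * ν)

end mat

end Cfsg.Agent.Helper16.PU3
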