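import Mathlib
import Cfsg.Agent.Lib.Helper10.PUDefs
import Cfsg.Agent.Lib.Helper22.PUDAG1
import Cfsg.Agent.Lib.Helper24.PUDAG2

/-!
# S2511 piece PU3-SPLIT (helper22): a squarefree dagger-fixed polynomial is a single dagger-orbit
or splits into two coprime dagger-fixed factors
-/

set_option autoImplicit false
set_option linter.unusedSectionVars false
set_option linter.unusedVariables false

namespace Cfsg.Agent.Helper16.PU3

open Polynomial Matrix
open Cfsg.Agent.Helper10.PU (dagger)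

section poly

variable {F : Type*} [Field F]

/-- aux: `dagger` preserves divisibility (self-contained copy, so that this file does not depend
on PU3-DAGMISC). -/
theorem pu3_split_dagger_dvd (φ : F →+* F) (hφφ : ∀ x, φ (φ x) = x) (f g : F[X])
    (hg0 : g.coeff 0 ≠ 0) (h : f ∣ g) : dagger φ f ∣ dagger φ g := by
  obtain ⟨k, rfl⟩ := h
  rw [mul_coeff_zero] at hg0
  have hf0 : f.coeff 0 ≠ 0 := left_ne_zero_of_mul hg0
  have hk0 : k.coeff 0 ≠ 0 := right_ne_zero_of_mul hg0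
  rw [(Cfsg.Agent.Helper10.PU.dagger_mul_irreducible φ hφφ).1 f k hf0 hk0]
  exact dvd_mul_right _ _

/-- aux: the tail of the argument, for a dagger-fixed monic divisor `ν` of `μ` of positive degree. -/
theorem pu3_split_tail (φ : F →+* F) (hφφ : ∀ x, φ (φ x) = x) (μ : F[X]) (hμm : μ.Monic)
    (hμs : Squarefree μ) (hμ0 : μ.coeff 0 ≠ 0) (hμd : dagger φ μ = μ)
    (ν : F[X]) (hνm : ν.Monic) (hνd : dagger φ ν = ν) (hνpos : 0 < ν.natDegree) (hνμ : ν ∣ μ) :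
    μ = ν ∨
    (∃ ν ρ : F[X], μ = ν * ρ ∧ IsCoprime ν ρ ∧ ν.coeff 0 ≠ 0 ∧ ρ.coeff 0 ≠ 0 ∧
        dagger φ ν = ν ∧ dagger φ ρ = ρ ∧ 0 < ν.natDegree ∧ 0 < ρ.natDegree) := by
  obtain ⟨ρ, hρ⟩ := hνμ
  have hρm : ρ.Monic := by
    have : (ν * ρ).Monic := hρ ▸ hμm
    exact hνm.of_mul_monic_left this
  have h0 : ν.coeff 0 * ρ.coeff 0 ≠ 0 := by
    rw [← mul_coeff_zero, ← hρ]; exact hμ0
  have hν0 : ν.coeff 0 ≠ 0 := left_ne_zero_of_mul h0
  have hρ0 : ρ.coeff 0 ≠ 0 := right_ne_zero_of_mul h0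
  by_cases hdeg : ρ.natDegree = 0
  · left
    have : ρ = 1 := hρm.natDegree_eq_zero.1 hdeg
    rw [hρ, this, mul_one]
  · right
    refine ⟨ν, ρ, hρ, ?_, hν0, hρ0, hνd, ?_, hνpos, Nat.pos_of_ne_zero hdeg⟩
    · have hsq : Squarefree (ν * ρ) := hρ ▸ hμs
      exact (squarefree_mul_iff.1 hsq).1.isCoprime
    · have h1 : dagger φ μ = dagger φ ν * dagger φ ρ := by
        rw [hρ]
        exact (Cfsg.Agent.Helper10.PU.dagger_mul_irreducible φ hφφ).1 ν ρ hν0 hρ0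
      rw [hμd, hνd] at h1
      have h2 : ν * ρ = ν * dagger φ ρ := by rw [← hρ]; exact h1
      exact (mul_left_cancel₀ hνm.ne_zero h2).symm

/-- PIECE PU3-SPLIT [L1]. -/
theorem single_or_split (φ : F →+* F) (hφφ : ∀ x, φ (φ x) = x) (μ : F[X]) (hμm : μ.Monic)
    (hμs : Squarefree μ) (hμ0 : μ.coeff 0 ≠ 0) (hμd : dagger φ μ = μ) (hdeg : 0 < μ.natDegree) :
    (∃ f : F[X], f.Monic ∧ Irreducible f ∧ f.coeff 0 ≠ 0 ∧
        ((μ = f ∧ dagger φ f = f) ∨ (μ = f * dagger φ f ∧ dagger φ f ≠ f))) ∨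
    (∃ ν ρ : F[X], μ = ν * ρ ∧ IsCoprime ν ρ ∧ ν.coeff 0 ≠ 0 ∧ ρ.coeff 0 ≠ 0 ∧
        dagger φ ν = ν ∧ dagger φ ρ = ρ ∧ 0 < ν.natDegree ∧ 0 < ρ.natDegree) := by
  have hnu : ¬ IsUnit μ := by
    intro hu
    have := Polynomial.natDegree_eq_zero_of_isUnit hu
    omega
  obtain ⟨f, hfm, hfirr, hfμ⟩ := Polynomial.exists_monic_irreducible_factor μ hnu
  have hf0 : f.coeff 0 ≠ 0 := by
    obtain ⟨k, hk⟩ := hfμ
    rw [hk, mul_coeff_zero] at hμ0
    exact left_ne_zero_of_mul hμ0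
  obtain ⟨hf'm, hf'deg, hf'0, hf'inv⟩ := Cfsg.Agent.Helper10.PU.dagger_facts φ hφφ f hf0
  have hf'inv := hf'inv hfm
  have hf'irr : Irreducible (dagger φ f) :=
    (Cfsg.Agent.Helper10.PU.dagger_mul_irreducible φ hφφ).2 f hf0 hfirr
  have hf'μ : dagger φ f ∣ μ := by
    have := pu3_split_dagger_dvd φ hφφ f μ hμ0 hfμ
    rwa [hμd] at this
  have hfpos : 0 < f.natDegree := hfirr.natDegree_pos
  by_cases hff : dagger φ f = f
  · -- ν = f
    rcases pu3_split_tail φ hφφ μ hμm hμs hμ0 hμd f hfm hff hfpos hfμ with h | h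
    · left; exact ⟨f, hfm, hfirr, hf0, Or.inl ⟨h, hff⟩⟩
    · right; exact h
  · -- ν = f * dagger f
    have hcop : IsCoprime f (dagger φ f) := by
      rw [hfirr.coprime_iff_not_dvd]
      intro hd
      have hass : Associated f (dagger φ f) := hfirr.associated_of_dvd hf'irr hd
      exact hff (Polynomial.eq_of_monic_of_associated hfm hf'm hass).symm
    have hνμ : f * dagger φ f ∣ μ := hcop.mul_dvd hfμ hf'μ
    have hνm : (f * dagger φ f).Monic := hfm.mul hf'm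
    have hνd : dagger φ (f * dagger φ f) = f * dagger φ f := by
      rw [(Cfsg.Agent.Helper10.PU.dagger_mul_irreducible φ hφφ).1 f (dagger φ f) hf0 hf'0,
        hf'inv, mul_comm]
    have hνpos : 0 < (f * dagger φ f).natDegree := by
      rw [hfm.natDegree_mul hf'm]; omega
    rcases pu3_split_tail φ hφφ μ hμm hμs hμ0 hμd (f * dagger φ f) hνm hνd hνpos hνμ with h | h
    · left; exact ⟨f, hfm, hfirr, hf0, Or.inr ⟨h, hff⟩⟩
    · right; exact h

end poly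

end Cfsg.Agent.Helper16.PU3
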