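import Mathlib
import Cfsg.Agent.Lib.Helper9.PUMINT
import Cfsg.Agent.Lib.Helper11.HermCount
import Cfsg.Prelude.Def_Classical
import Cfsg.Agent.Lib.Helper10.PUDefs
import Cfsg.Agent.Lib.Helper21.PL3Defs
import Cfsg.Agent.Lib.Helper16.PU3Defs
import Cfsg.Agent.Lib.Helper11.Unitary3
import Cfsg.Agent.Lib.PU3.PU3SUCENT
import Cfsg.Agent.Lib.PU3.PU3SPLIT
import Cfsg.Agent.Lib.PU3.PU3HERMIDEM
import Cfsg.Agent.Lib.PU3.PU3GOODDEC
import Cfsg.Agent.Lib.PU3.PU3SINGLE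

/-!
# S2511 piece PU3-KEY (helper16): the orders of the bad elements of `PSU_n(q)`.
-/

set_option autoImplicit false

namespace Cfsg.Agent.Helper16.PU3

open Polynomial Matrix
open Cfsg.Agent.Helper11.Herm
open Cfsg.Agent.Helper10.PU (dagger Efun wfun)
open Cfsg.Agent.Helper21.PL3 (Good)

section fin

variable {F : Type*} [Field F] [Fintype F] {q : ℕ}

theorem pu3_key_coe_pow (n : ℕ) (g : Cfsg.SU n F q) (k : ℕ) :
    (((g ^ k : Cfsg.SU n F q) : Matrix.SpecialLinearGroup (Fin n) F) : Matrix (Fin n) (Fin n) F) =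
      ((g : Matrix.SpecialLinearGroup (Fin n) F) : Matrix (Fin n) (Fin n) F) ^ k := by
  rw [SubgroupClass.coe_pow, Matrix.SpecialLinearGroup.coe_pow]

theorem pu3_key_isU (φ : F →+* F) (hφ : ∀ x, φ x = x ^ q) (n : ℕ) (g : Cfsg.SU n F q) :
    IsU φ ((g : Matrix.SpecialLinearGroup (Fin n) F) : Matrix (Fin n) (Fin n) F) :=
  (mem_SU_iff_isU φ hφ n g.1).1 g.2

/-- a unitary scalar matrix has a scalar of norm one -/
theorem pu3_key_scalar (φ : F →+* F) (n : ℕ) (hn : 1 ≤ n) (c : F)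
    (h : IsU φ (c • (1 : Matrix (Fin n) (Fin n) F))) : c * φ c = 1 := by
  unfold IsU at h
  have h1 := congrFun (congrFun h ⟨0, hn⟩) ⟨0, hn⟩
  rw [Matrix.mul_apply] at h1
  simp only [Matrix.transpose_apply, Matrix.map_apply, Matrix.smul_apply, Matrix.one_apply,
    smul_eq_mul, Matrix.one_apply_eq] at h1
  rw [Finset.sum_eq_single (⟨0, hn⟩ : Fin n)] at h1
  · simpa using h1
  · intro b _ hb
    rw [if_neg hb]
    simp
  · intro hb
    exact absurd (Finset.mem_univ _) hb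

/-- PIECE PU3-KEY. -/
theorem key (hF : Fintype.card F = q ^ 2) (n : ℕ) (hn : 2 ≤ n) (p : ℕ) [Fact p.Prime]
    [CharP F p] (r : ℕ) (hr : r.Prime) (hrq : r ∣ q + 1) (hrn : ¬ r ∣ n) (x : Cfsg.PSU n F q)
    (hx : ¬ Good r x) :
    ∃ t c : ℕ, orderOf x = p ^ t * c ∧ ¬ p ∣ c ∧ c ∣ MU q n := by
  obtain ⟨φ, hφ⟩ := exists_frob hF
  have hφφ := frob_frob hF φ hφ
  have hp : p.Prime := Fact.out
  have hn1 : 1 ≤ n := by omega
  have : NeZero n := ⟨by omega⟩
  -- `p ∣ q`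
  have hpq : p ∣ q := by
    have h1 : p ∣ Fintype.card F :=
      (CharP.cast_eq_zero_iff F p (Fintype.card F)).1 (Nat.cast_card_eq_zero F)
    rw [hF] at h1
    exact hp.dvd_of_dvd_pow h1
  have hpq1 : ¬ p ∣ q + 1 := by
    intro h
    have h2 : p ∣ 1 := (Nat.dvd_add_right hpq).1 h
    exact hp.one_lt.ne' (Nat.dvd_one.1 h2)
  obtain ⟨g, rfl⟩ := QuotientGroup.mk_surjective x
  have ho : 0 < orderOf (QuotientGroup.mk g : Cfsg.PSU n F q) := orderOf_pos _
  obtain ⟨t, c, hpc, hoc⟩ := Nat.exists_eq_pow_mul_and_not_dvd ho.ne' p hp.ne_one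
  refine ⟨t, c, hoc, hpc, ?_⟩
  set h : Cfsg.SU n F q := g ^ (p ^ t) with hh
  have hord : orderOf (QuotientGroup.mk h : Cfsg.PSU n F q) = c := by
    rw [hh, QuotientGroup.mk_pow, orderOf_pow_of_dvd (pow_pos hp.pos t).ne' ⟨c, hoc⟩, hoc,
      Nat.mul_div_cancel_left _ (pow_pos hp.pos t)]
  set G : Matrix (Fin n) (Fin n) F :=
    ((g : Matrix.SpecialLinearGroup (Fin n) F) : Matrix (Fin n) (Fin n) F) with hG
  set H : Matrix (Fin n) (Fin n) F :=
    ((h : Matrix.SpecialLinearGroup (Fin n) F) : Matrix (Fin n) (Fin n) F) with hHdef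
  have hH : H = G ^ (p ^ t) := pu3_key_coe_pow n g (p ^ t)
  have hUH : IsU φ H := pu3_key_isU φ hφ n h
  have hdetH : H.det = 1 := (h : Matrix.SpecialLinearGroup (Fin n) F).2
  -- `H ^ c` is a scalar of norm one
  have h1 : (QuotientGroup.mk h : Cfsg.PSU n F q) ^ c = 1 := by
    rw [← hord]; exact pow_orderOf_eq_one _
  obtain ⟨lam, hlam⟩ := (mk_pow_eq_one_iff hF n hn1 h c).1 h1
  have hlamU : lam * φ lam = 1 := by
    apply pu3_key_scalar φ n hn1
    rw [← hlam, ← pu3_key_coe_pow n h c]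
    exact pu3_key_isU φ hφ n (h ^ c)
  have hlam1 : lam ^ (q + 1) = 1 := by
    rw [pow_succ, mul_comm, ← hφ]; exact hlamU
  have hHk : H ^ (c * (q + 1)) = 1 := by
    rw [pow_mul, hlam, _root_.smul_pow, one_pow, hlam1, one_smul]
  -- the minimal polynomial is squarefree
  have hkF : ((c * (q + 1) : ℕ) : F) ≠ 0 := by
    intro h0
    have h2 : p ∣ c * (q + 1) := (CharP.cast_eq_zero_iff F p _).1 h0
    rcases hp.dvd_mul.1 h2 with h3 | h3
    · exact hpc h3
    · exact hpq1 h3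
  have hint : IsIntegral F H := Matrix.isIntegral H
  have hdvd : minpoly F H ∣ X ^ (c * (q + 1)) - 1 := by
    apply minpoly.dvd
    rw [map_sub, map_pow, aeval_X, map_one, hHk, sub_self]
  have hsep : (X ^ (c * (q + 1)) - 1 : F[X]).Separable := by
    have := Polynomial.separable_X_pow_sub_C (1 : F) hkF one_ne_zero
    rwa [C_1] at this
  have hsq : Squarefree (minpoly F H) := (hsep.of_dvd hdvd).squarefree
  have hmonic : (minpoly F H).Monic := minpoly.monic hint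
  obtain ⟨hμ0, hμd⟩ := Cfsg.Agent.Helper10.PU.minpoly_dagger φ hφφ n hn1 H hUH
  have hdeg : 0 < (minpoly F H).natDegree := minpoly.natDegree_pos hint
  rcases single_or_split φ hφφ (minpoly F H) hmonic hsq hμ0 hμd hdeg with
    ⟨f, hf, hirr, hf0, hcase⟩ | ⟨ν, ρ, hνρ, hcop, hν0, hρ0, hνd, hρd, hνdeg, hρdeg⟩
  · obtain ⟨c1, hc1⟩ := single_orbit_scalar hF φ hφ n hn1 H hUH hdetH f hf hirr hf0 hcase
    have h3 : (QuotientGroup.mk h : Cfsg.PSU n F q) ^ MU q n = 1 :=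
      (mk_pow_eq_one_iff hF n hn1 h (MU q n)).2 ⟨c1, hc1⟩
    rw [← hord]
    exact orderOf_dvd_of_pow_eq_one h3
  · exfalso
    apply hx
    obtain ⟨e, he, he0, he1, heh, hcomm⟩ :=
      exists_herm_idempotent φ hφφ H hUH ν ρ hνρ hcop hν0 hρ0 hνd hρd hνdeg hρdeg
    have hGH : Commute G H := by
      rw [hH]
      exact (Commute.refl G).pow_right _
    exact good_of_herm_idempotent hF φ hφ n r hr hrq hrn g e he he0 he1 heh (hcomm G hGH)

end fin

end Cfsg.Agent.Helper16.PU3
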