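import Mathlib
import Cfsg.Agent.Lib.Helper10.PUDefs
import Cfsg.Agent.Lib.Helper27.PUNUMDVD

/-! PU3-NUMD (S2511, design helper16; by helper23): `gcd n (q+1) ∣ wfun q n` and `0 < wfun q n`. -/

set_option autoImplicit false
set_option linter.unusedSectionVars false
set_option linter.unusedVariables false

namespace Cfsg.Agent.Helper16.PU3

open Polynomial Matrix
open Cfsg.Agent.Helper10.PU (dagger Efun wfun)

/-- `(Efun q n : ℤ) = q^n - (-1)^n`. -/
theorem pu3_numd_Efun_cast (q n : ℕ) (hq : 1 ≤ q) :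
    ((Efun q n : ℕ) : ℤ) = (q : ℤ) ^ n - (-1) ^ n := by
  unfold Efun
  split_ifs with h
  · have h1 : 1 ≤ q ^ n := Nat.one_le_pow _ _ hq
    rw [Nat.cast_sub h1, Even.neg_one_pow h]
    push_cast
    ring
  · have h1 : Odd n := Nat.not_even_iff_odd.mp h
    rw [Odd.neg_one_pow h1]
    push_cast
    ring

/-- `wfun q n` as an alternating geometric sum. -/
theorem pu3_numd_wfun_sum (q n : ℕ) (hq : 1 ≤ q) (hn : 1 ≤ n) :
    ((wfun q n : ℕ) : ℤ) = ∑ i ∈ Finset.range n, (q : ℤ) ^ i * (-1) ^ (n - 1 - i) := by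
  have h := Nat.div_mul_cancel (Cfsg.Agent.Helper10.PU.succ_dvd_Efun q n hn)
  have h2 : wfun q n * (q + 1) = Efun q n := h
  have h3 : ((wfun q n : ℕ) : ℤ) * ((q : ℤ) + 1) = (q : ℤ) ^ n - (-1) ^ n := by
    rw [← pu3_numd_Efun_cast q n hq, ← h2]; push_cast; ring
  have h4 := geom_sum₂_mul (q : ℤ) (-1) n
  have h5 : ((q : ℤ) + 1) ≠ 0 := by positivity
  have h6 : (q : ℤ) - (-1) = (q : ℤ) + 1 := by ring
  rw [h6] at h4
  exact mul_right_cancel₀ h5 (h3.trans h4.symm)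

/-- `wfun q n ≡ (-1)^(n-1) n (mod q+1)`. -/
theorem pu3_numd_mod (q n : ℕ) (hq : 1 ≤ q) (hn : 1 ≤ n) :
    ((q : ℤ) + 1) ∣ ((wfun q n : ℕ) : ℤ) - (n : ℤ) * (-1) ^ (n - 1) := by
  rw [pu3_numd_wfun_sum q n hq hn]
  have h1 : (n : ℤ) * (-1) ^ (n - 1) = ∑ i ∈ Finset.range n, (-1 : ℤ) ^ (n - 1) := by
    rw [Finset.sum_const, Finset.card_range, nsmul_eq_mul]
  rw [h1, ← Finset.sum_sub_distrib]
  apply Finset.dvd_sum
  intro i hi
  have hi' : i < n := Finset.mem_range.mp hi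
  have h2 : (-1 : ℤ) ^ (n - 1) = (-1) ^ i * (-1) ^ (n - 1 - i) := by
    rw [← pow_add]; congr 1; omega
  rw [h2, ← sub_mul]
  apply Dvd.dvd.mul_right
  have h3 := sub_dvd_pow_sub_pow (q : ℤ) (-1) i
  have h6 : (q : ℤ) - (-1) = (q : ℤ) + 1 := by ring
  rwa [h6] at h3

/-- PIECE PU3-NUMD [L1]. -/
theorem gcd_dvd_wfun (q n : ℕ) (hq : 2 ≤ q) (hn : 1 ≤ n) :
    Nat.gcd n (q + 1) ∣ wfun q n ∧ 0 < wfun q n := by
  have hq1 : 1 ≤ q := by omega
  constructor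
  · have h1 := pu3_numd_mod q n hq1 hn
    have hd1 : ((Nat.gcd n (q + 1) : ℕ) : ℤ) ∣ (n : ℤ) :=
      Int.natCast_dvd_natCast.mpr (Nat.gcd_dvd_left n (q + 1))
    have hd2 : ((Nat.gcd n (q + 1) : ℕ) : ℤ) ∣ (q : ℤ) + 1 := by
      have := Int.natCast_dvd_natCast.mpr (Nat.gcd_dvd_right n (q + 1))
      push_cast at this
      exact this
    have h2 : ((Nat.gcd n (q + 1) : ℕ) : ℤ) ∣ ((wfun q n : ℕ) : ℤ) := by
      have h3 := dvd_add (hd2.trans h1) (Dvd.dvd.mul_right hd1 ((-1 : ℤ) ^ (n - 1)))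
      rwa [sub_add_cancel] at h3
    exact Int.natCast_dvd_natCast.mp h2
  · have h := Nat.div_mul_cancel (Cfsg.Agent.Helper10.PU.succ_dvd_Efun q n hn)
    have h2 : wfun q n * (q + 1) = Efun q n := h
    have hE : 0 < Efun q n := by
      unfold Efun
      split_ifs with he
      · have : 2 ^ n ≤ q ^ n := Nat.pow_le_pow_left hq n
        have h2n : 2 ≤ 2 ^ n := by
          calc 2 = 2 ^ 1 := (pow_one 2).symm
            _ ≤ 2 ^ n := Nat.pow_le_pow_right (by norm_num) hn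
        omega
      · positivity
    by_contra hw
    have hw0 : wfun q n = 0 := by omega
    rw [hw0, zero_mul] at h2
    omega

end Cfsg.Agent.Helper16.PU3
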