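import Mathlib
import Cfsg.Agent.Lib.Helper10.PUDefs
import Cfsg.Agent.Lib.Helper22.PUDAG1
import Cfsg.Agent.Lib.Helper24.PUDAG2
import Cfsg.Agent.Lib.Helper11.PUDAGX

/-!
# S2511 piece PU3-ORBDVD: a single-orbit `μ` divides `X ^ s - C c` as soon as its factor `f` does.
-/

set_option autoImplicit false
set_option linter.unusedSectionVars false
set_option linter.unusedVariables false

namespace Cfsg.Agent.Helper16.PU3

open Polynomial Matrix
open Cfsg.Agent.Helper10.PU (dagger Efun wfun)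

section poly

variable {F : Type*} [Field F]

/-- `dagger` is monotone for divisibility (own copy, from multiplicativity). -/
theorem pu3_orbdvd_dagger_dvd (φ : F →+* F) (hφφ : ∀ x, φ (φ x) = x) (f g : F[X])
    (hg0 : g.coeff 0 ≠ 0) (h : f ∣ g) : dagger φ f ∣ dagger φ g := by
  obtain ⟨k, rfl⟩ := h
  have hfk : f.coeff 0 * k.coeff 0 ≠ 0 := by
    rwa [Polynomial.mul_coeff_zero] at hg0
  have hf0 : f.coeff 0 ≠ 0 := left_ne_zero_of_mul hfk
  have hk0 : k.coeff 0 ≠ 0 := right_ne_zero_of_mul hfk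
  rw [(Cfsg.Agent.Helper10.PU.dagger_mul_irreducible φ hφφ).1 f k hf0 hk0]
  exact dvd_mul_right _ _

/-- PIECE PU3-ORBDVD [L2: dagger_dvd + landed `dagger_X_pow_sub_C`]. -/
theorem orbit_dvd (φ : F →+* F) (hφφ : ∀ x, φ (φ x) = x) (f μ : F[X]) (hf : f.Monic)
    (hirr : Irreducible f) (hf0 : f.coeff 0 ≠ 0)
    (hμ : (μ = f ∧ dagger φ f = f) ∨ (μ = f * dagger φ f ∧ dagger φ f ≠ f))
    (s : ℕ) (hs : 0 < s) (c : F) (hc : c * φ c = 1) (h : f ∣ X ^ s - C c) : μ ∣ X ^ s - C c := by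
  rcases hμ with ⟨rfl, -⟩ | ⟨rfl, hne⟩
  · exact h
  · have hc0 : c ≠ 0 := left_ne_zero_of_mul_eq_one hc
    have hg0 : (X ^ s - C c : F[X]).coeff 0 ≠ 0 := by
      rw [coeff_sub, coeff_X_pow, coeff_C_zero, if_neg (by omega), zero_sub]
      exact neg_ne_zero.mpr hc0
    have hd : dagger φ f ∣ X ^ s - C c := by
      have := pu3_orbdvd_dagger_dvd φ hφφ f (X ^ s - C c) hg0 h
      rwa [Cfsg.Agent.Helper10.PU.dagger_X_pow_sub_C φ s hs c hc] at this
    obtain ⟨hdm, -, -, -⟩ := Cfsg.Agent.Helper10.PU.dagger_facts φ hφφ f hf0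
    have hdirr : Irreducible (dagger φ f) :=
      (Cfsg.Agent.Helper10.PU.dagger_mul_irreducible φ hφφ).2 f hf0 hirr
    have hcop : IsCoprime f (dagger φ f) := by
      rw [hirr.coprime_iff_not_dvd]
      intro hdvd
      exact hne (Polynomial.eq_of_monic_of_associated hf hdm
        (hirr.associated_of_dvd hdirr hdvd)).symm
    exact hcop.mul_dvd h hd

end poly

end Cfsg.Agent.Helper16.PU3
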