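import Mathlib
import Cfsg.Prelude.Def_Classical
import Cfsg.Agent.Lib.Helper10.PUDefs
import Cfsg.Agent.Lib.Helper21.PL3Defs
import Cfsg.Agent.Lib.Helper16.PU3Defs
import Cfsg.Agent.Lib.Helper11.Unitary3

/-!
# S2511, piece PU3-ORDR (helper8), core: an element of order `r` in `PSU_n(q)`, with the statement
of PU3-GOODDEC (`good_of_herm_idempotent`, at `g = 1`) as a hypothesis.
-/

set_option autoImplicit false
set_option linter.unusedSectionVars false
set_option linter.unusedVariables false

namespace Cfsg.Agent.Helper16.PU3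

open Polynomial Matrix
open Cfsg.Agent.Helper11.Herm
open Cfsg.Agent.Helper10.PU (dagger Efun wfun)
open Cfsg.Agent.Helper21.PL3 (Good)

variable {F : Type*} [Field F] [Fintype F] {q : ℕ}

theorem pu3_ordr_core (hF : Fintype.card F = q ^ 2) (n : ℕ) (hn : 2 ≤ n) (r : ℕ)
    (hr : r.Prime) (hrq : r ∣ q + 1) (hrn : ¬ r ∣ n)
    (hgood : ∀ (φ : F →+* F), (∀ x, φ x = x ^ q) →
      ∀ (g : Cfsg.SU n F q) (e : Matrix (Fin n) (Fin n) F), e * e = e → e ≠ 0 → e ≠ 1 →
        eᵀ = e.map φ →
        Commute e ((g : Matrix.SpecialLinearGroup (Fin n) F) : Matrix (Fin n) (Fin n) F) →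
        Good r (QuotientGroup.mk g : Cfsg.PSU n F q)) :
    ∃ y : Cfsg.PSU n F q, orderOf y = r := by
  classical
  obtain ⟨φ, hφ⟩ := exists_frob hF
  set i0 : Fin n := ⟨0, by omega⟩ with hi0
  set i1 : Fin n := ⟨1, by omega⟩ with hi1
  have h01 : i1 ≠ i0 := by
    intro h
    have := congrArg Fin.val h
    simp [hi0, hi1] at this
  set e : Matrix (Fin n) (Fin n) F := Matrix.diagonal (fun i => if i = i0 then 1 else 0) with he
  have hee : e * e = e := by
    rw [he, Matrix.diagonal_mul_diagonal]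
    congr 1
    funext i
    by_cases h : i = i0 <;> simp [h]
  have he0 : e ≠ 0 := by
    intro h
    have h1 := congrFun (congrFun h i0) i0
    rw [he, Matrix.diagonal_apply_eq] at h1
    simp at h1
  have he1 : e ≠ 1 := by
    intro h
    have h1 := congrFun (congrFun h i1) i1
    rw [he, Matrix.diagonal_apply_eq, Matrix.one_apply_eq, if_neg h01] at h1
    exact zero_ne_one h1
  have heh : eᵀ = e.map φ := by
    rw [he, Matrix.diagonal_transpose]
    ext i j
    by_cases hij : i = j
    · subst hij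
      rw [Matrix.map_apply, Matrix.diagonal_apply_eq]
      by_cases h : i = i0 <;> simp [h]
    · rw [Matrix.map_apply, Matrix.diagonal_apply_ne _ hij, map_zero]
  have hc : Commute e (((1 : Cfsg.SU n F q) : Matrix.SpecialLinearGroup (Fin n) F) :
      Matrix (Fin n) (Fin n) F) := by
    have h1 : (((1 : Cfsg.SU n F q) : Matrix.SpecialLinearGroup (Fin n) F) :
        Matrix (Fin n) (Fin n) F) = 1 := rfl
    rw [h1]
    exact Commute.one_right e
  obtain ⟨y, hy⟩ := hgood φ hφ (1 : Cfsg.SU n F q) e hee he0 he1 heh hc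
  refine ⟨y, ?_⟩
  rw [hy]
  have : (QuotientGroup.mk (1 : Cfsg.SU n F q) : Cfsg.PSU n F q) = 1 := rfl
  rw [this, orderOf_one, Nat.lcm_one_left]

end Cfsg.Agent.Helper16.PU3
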