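import Mathlib
import Cfsg.Prelude.Def_Classical
import Cfsg.Agent.Lib.Helper10.PUDefs
import Cfsg.Agent.Lib.Helper21.PL3Defs
import Cfsg.Agent.Lib.Helper16.PU3Defs
import Cfsg.Agent.Lib.Helper11.Unitary3
import Cfsg.Agent.Lib.PU3.PU3GOODDEC
import Cfsg.Agent.Lib.PU3.PU3ORDRCore

/-!
# S2511, piece PU3-ORDR (helper8): an element of order `r` in `PSU_n(q)`.
-/

set_option autoImplicit false
set_option linter.unusedSectionVars false
set_option linter.unusedVariables false

namespace Cfsg.Agent.Helper16.PU3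

open Polynomial Matrix
open Cfsg.Agent.Helper11.Herm
open Cfsg.Agent.Helper10.PU (dagger Efun wfun)
open Cfsg.Agent.Helper21.PL3 (Good)

variable {F : Type*} [Field F] [Fintype F] {q : ℕ}

/-- PIECE PU3-ORDR [L3: good_of_herm_idempotent]. -/
theorem exists_orderOf_eq_r (hF : Fintype.card F = q ^ 2) (n : ℕ) (hn : 2 ≤ n) (r : ℕ)
    (hr : r.Prime) (hrq : r ∣ q + 1) (hrn : ¬ r ∣ n) :
    ∃ y : Cfsg.PSU n F q, orderOf y = r :=
  pu3_ordr_core hF n hn r hr hrq hrn
    (fun φ hφ g e he he0 he1 heh hc =>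
      good_of_herm_idempotent hF φ hφ n r hr hrq hrn g e he he0 he1 heh hc)

end Cfsg.Agent.Helper16.PU3
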