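import Mathlib
import Cfsg.Prelude.Def_Classical
import Cfsg.Agent.Lib.Helper21.PL3Defs
import Cfsg.Agent.Lib.PL3.PL3PBOUND

/-!
# S2511 piece PU3-PBOUND (helper21): `p ^ t ∣ orderOf x` in `PSU_n(q)` forces `p ^ (t - 1) < n`.

`SU_n(q)` is a subgroup of `SL_n(F)`, so the bound for `SL_n(F)` (helper28's `pl3_pbound_sl`) applies to a
lift of `x`.
-/

set_option autoImplicit false
set_option linter.unusedSectionVars false
set_option linter.unusedVariables false

namespace Cfsg.Agent.Helper16.PU3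

open Polynomial Matrix

section fin

variable {F : Type*} [Field F] [Fintype F] {q : ℕ}

/-- PIECE PU3-PBOUND [L2]. -/
theorem pow_lt_of_pow_dvd_orderOf (hF : Fintype.card F = q ^ 2) (n : ℕ) (hn : 1 ≤ n) (p : ℕ)
    [Fact p.Prime] [CharP F p] (x : Cfsg.PSU n F q) (t : ℕ) (ht : 1 ≤ t)
    (hx : p ^ t ∣ orderOf x) : p ^ (t - 1) < n := by
  obtain ⟨g, rfl⟩ := QuotientGroup.mk_surjective x
  have h1 : orderOf (QuotientGroup.mk g : Cfsg.PSU n F q) ∣ orderOf g :=
    orderOf_map_dvd (QuotientGroup.mk' (Subgroup.center (Cfsg.SU n F q))) g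
  have h2 : orderOf (g : Matrix.SpecialLinearGroup (Fin n) F) = orderOf g :=
    Subgroup.orderOf_coe g
  exact Cfsg.Agent.Helper21.PL3.pl3_pbound_sl p (g : Matrix.SpecialLinearGroup (Fin n) F) t ht
    (by rw [h2]; exact dvd_trans hx h1)

end fin

end Cfsg.Agent.Helper16.PU3
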