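import Mathlib
import Cfsg.Agent.Lib.PL3.PL3ROOTS

/-!
# S2511, piece PU3-ROOTD (helper4 for helper16)

`f` irreducible over the finite field `F`, `f ∣ X^w - 1`, `d ∣ w`, `d ∣ |F| - 1`  ⟹
`f ∣ X^(w/d) - C c` for some `c` with `c^d = 1`.
-/

set_option autoImplicit false
set_option linter.unusedSectionVars false
set_option linter.unusedVariables false

namespace Cfsg.Agent.Helper16.PU3

open Polynomial Matrix

section finpoly

variable {F : Type*} [Field F] [Fintype F] {q : ℕ}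

/-- PIECE PU3-ROOTD [L1: uses landed PL3-ROOTS]. -/
theorem irreducible_dvd_of_dvd (f : F[X]) (hf : f.Monic) (hirr : Irreducible f) (w d : ℕ)
    (hd0 : 0 < d) (hd : d ∣ w) (hdF : d ∣ Fintype.card F - 1) (h : f ∣ X ^ w - 1) :
    ∃ c : F, c ^ d = 1 ∧ f ∣ X ^ (w / d) - C c := by
  have : Fact (Irreducible f) := ⟨hirr⟩
  have hαw : (AdjoinRoot.root f) ^ w = 1 := by
    have h0 : AdjoinRoot.mk f (X ^ w - 1) = 0 := AdjoinRoot.mk_eq_zero.mpr h
    rw [map_sub, map_pow, map_one, AdjoinRoot.mk_X, sub_eq_zero] at h0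
    exact h0
  have hkw : w / d * d = w := Nat.div_mul_cancel hd
  have hy1 : ((AdjoinRoot.root f) ^ (w / d)) ^ d = 1 := by
    rw [← pow_mul, hkw, hαw]
  obtain ⟨c, hc1, hc⟩ :=
    Cfsg.Agent.Helper21.PL3.mem_range_of_pow_eq_one (F := F) d hdF
      ((AdjoinRoot.root f) ^ (w / d)) hy1
  refine ⟨c, hc1, ?_⟩
  rw [← AdjoinRoot.mk_eq_zero, map_sub, map_pow, AdjoinRoot.mk_X, AdjoinRoot.mk_C, sub_eq_zero]
  rw [← hc]
  rfl

end finpoly

end Cfsg.Agent.Helper16.PU3
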