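import Mathlib
import Cfsg.Prelude.Def_Classical
import Cfsg.Agent.Lib.Helper10.PUDefs
import Cfsg.Agent.Lib.Helper21.PL3Defs
import Cfsg.Agent.Lib.Helper16.PU3Defs
import Cfsg.Agent.Lib.Helper16.PUEDefs
import Cfsg.Agent.Lib.Helper11.Unitary3
import Cfsg.Agent.Lib.Helper11.UnitaryGeom
import Cfsg.Agent.Lib.Helper6.PUDVDB
import Cfsg.Agent.Lib.PU3.PU3CHARDVD
import Cfsg.Agent.Lib.PU3.PU3FLDI

/-!
# S2511 piece PU3-SINGLEI (helper18): irreducible `dagger`-fixed minimal polynomial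
-/

set_option autoImplicit false
set_option linter.unusedSectionVars false
set_option linter.unusedVariables false

namespace Cfsg.Agent.Helper16.PU3

open Polynomial Matrix
open Cfsg.Agent.Helper11.Herm
open Cfsg.Agent.Helper10.PU (dagger Efun wfun)
open Cfsg.Agent.Helper21.PL3 (Good)

section fin

variable {F : Type*} [Field F] [Fintype F] {q : ℕ}

/-- if `minpoly F H ∣ X ^ s - C c` then `H ^ s = c • 1`. -/
theorem pu3_singlei_pow_of_dvd {n : ℕ} (H : Matrix (Fin n) (Fin n) F) (s : ℕ) (c : F)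
    (h : minpoly F H ∣ X ^ s - C c) : H ^ s = c • (1 : Matrix (Fin n) (Fin n) F) := by
  have h0 : aeval H (X ^ s - C c : F[X]) = 0 :=
    aeval_eq_zero_of_dvd_aeval_eq_zero h (minpoly.aeval F H)
  simp only [map_sub, map_pow, aeval_X, aeval_C] at h0
  rw [sub_eq_zero] at h0
  rw [h0, Algebra.algebraMap_eq_smul_one]

/-- PIECE PU3-SINGLEI. -/
theorem single_I (hF : Fintype.card F = q ^ 2) (φ : F →+* F) (hφ : ∀ x, φ x = x ^ q) (n : ℕ)
    (hn : 1 ≤ n) (H : Matrix (Fin n) (Fin n) F) (hU : IsU φ H) (hdet : H.det = 1) (f : F[X])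
    (hf : f.Monic) (hirr : Irreducible f) (hf0 : f.coeff 0 ≠ 0) (hμ : minpoly F H = f)
    (hdag : dagger φ f = f) :
    ∃ n0 m' : ℕ, 1 ≤ n0 ∧ 1 ≤ m' ∧ n0 * m' = n ∧ H ^ Efun q n0 = 1 ∧
      H ^ (wfun q n0 * m') = 1 := by
  classical
  have hφφ : ∀ x, φ (φ x) = x := frob_frob hF φ hφ
  obtain ⟨hodd, hfE⟩ :=
    Cfsg.Agent.Helper10.PU.dagger_fixed_irreducible q hF φ hφ f hf hirr hf0 hdag
  set e := f.natDegree with he
  have he1 : 1 ≤ e := by
    have := hirr.natDegree_pos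
    omega
  -- the characteristic polynomial is a power of `f`
  have hχ1 : H.charpoly ∣ f ^ n := by
    have := charpoly_dvd_minpoly_pow H
    rwa [hμ] at this
  obtain ⟨m', -, hm'a⟩ := (dvd_prime_pow hirr.prime n).1 hχ1
  have hm' : H.charpoly = f ^ m' :=
    eq_of_monic_of_associated (Matrix.charpoly_monic H) (hf.pow m') hm'a
  have hnm : n = m' * e := by
    have h1 : H.charpoly.natDegree = n := by
      rw [Matrix.charpoly_natDegree_eq_dim]; simp
    rw [hm', hf.natDegree_pow] at h1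
    exact h1.symm
  have hm'1 : 1 ≤ m' := by
    rcases Nat.eq_zero_or_pos m' with h | h
    · rw [h] at hnm; omega
    · exact h
  -- `H ^ Efun q e = 1`
  have hEe : Efun q e = q ^ e + 1 := by
    unfold Cfsg.Agent.Helper10.PU.Efun
    rw [if_neg (Nat.not_even_iff_odd.2 hodd)]
  have hμE : minpoly F H ∣ X ^ (Efun q e) - C (1 : F) := by
    rw [hμ, map_one, hEe]; exact hfE
  have hHE : H ^ Efun q e = 1 := by
    rw [pu3_singlei_pow_of_dvd H _ _ hμE, one_smul]
  -- `H ^ wfun q e = N • 1`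
  set N : F := (-1) ^ e * f.coeff 0 with hN
  have hμw : minpoly F H ∣ X ^ (wfun q e) - C N := by
    rw [hμ]; exact dagger_fixed_dvd hF φ hφ f hf hirr hf0 hdag
  have hHw : H ^ wfun q e = N • (1 : Matrix (Fin n) (Fin n) F) :=
    pu3_singlei_pow_of_dvd H _ _ hμw
  -- the determinant
  have hdet2 : H.det = N ^ m' := by
    have h1 := Matrix.det_eq_sign_charpoly_coeff H
    rw [h1, hm']
    simp only [Fintype.card_fin]
    rw [coeff_zero_eq_eval_zero, eval_pow, ← coeff_zero_eq_eval_zero, hN, mul_pow, ← pow_mul,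
      hnm, mul_comm m' e]
  have hNm : N ^ m' = 1 := by rw [← hdet2, hdet]
  refine ⟨e, m', he1, hm'1, by rw [hnm]; ring, hHE, ?_⟩
  rw [pow_mul, hHw, _root_.smul_pow, one_pow, hNm, one_smul]

end fin

end Cfsg.Agent.Helper16.PU3
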