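import Mathlib
import Cfsg.Prelude.Def_Classical
import Cfsg.Agent.Lib.Helper10.PUDefs
import Cfsg.Agent.Lib.Helper21.PL3Defs
import Cfsg.Agent.Lib.Helper16.PU3Defs
import Cfsg.Agent.Lib.Helper16.PUEDefs
import Cfsg.Agent.Lib.Helper11.Unitary3
import Cfsg.Agent.Lib.Helper11.UnitaryGeom
import Cfsg.Agent.Lib.Helper22.PUDAG1
import Cfsg.Agent.Lib.Helper24.PUDAG2
import Cfsg.Agent.Lib.PU3.PU3CHARDVD
import Cfsg.Agent.Lib.PU3.PU3CHARDAG
import Cfsg.Agent.Lib.PU3.PU3CHARPOW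
import Cfsg.Agent.Lib.PU3.PU3ORBDVD
import Cfsg.Agent.Lib.PU3.PU3DAGMISC
import Cfsg.Agent.Lib.PU3.PU3NUMD

/-!
# S2511 piece PU3-SINGLEII, core (helper18): minimal polynomial `f * dagger f`;
the statement of PU3-FLDII is a hypothesis
-/

set_option autoImplicit false
set_option linter.unusedSectionVars false
set_option linter.unusedVariables false

namespace Cfsg.Agent.Helper16.PU3

open Polynomial Matrix
open Cfsg.Agent.Helper11.Herm
open Cfsg.Agent.Helper10.PU (dagger Efun wfun)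
open Cfsg.Agent.Helper21.PL3 (Good)

section fin

variable {F : Type*} [Field F] [Fintype F] {q : ℕ}

/-- `P ∣ X^s - C c` and `minpoly H ∣ P`-type evaluation: if `minpoly F H ∣ X ^ s - C c` then
`H ^ s = c • 1`. -/
theorem pu3_singleii_pow_of_dvd {n : ℕ} (H : Matrix (Fin n) (Fin n) F) (s : ℕ) (c : F)
    (h : minpoly F H ∣ X ^ s - C c) : H ^ s = c • (1 : Matrix (Fin n) (Fin n) F) := by
  have h0 : aeval H (X ^ s - C c : F[X]) = 0 :=
    aeval_eq_zero_of_dvd_aeval_eq_zero h (minpoly.aeval F H)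
  simp only [map_sub, map_pow, aeval_X, aeval_C] at h0
  rw [sub_eq_zero] at h0
  rw [h0, Algebra.algebraMap_eq_smul_one]

/-- PIECE PU3-SINGLEII with the statement of `pair_dvd` as a hypothesis. -/
theorem pu3_singleii_core (hF : Fintype.card F = q ^ 2) (φ : F →+* F) (hφ : ∀ x, φ x = x ^ q) (n : ℕ)
    (hn : 1 ≤ n) (H : Matrix (Fin n) (Fin n) F) (hU : IsU φ H) (hdet : H.det = 1) (f : F[X])
    (hf : f.Monic) (hirr : Irreducible f) (hf0 : f.coeff 0 ≠ 0)
    (hμ : minpoly F H = f * dagger φ f) (hdag : dagger φ f ≠ f)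
    (hpair : ∀ g : F[X], g.Monic → Irreducible g → g.coeff 0 ≠ 0 →
      g ∣ X ^ (Efun q (2 * g.natDegree)) - 1 ∧
      g ∣ X ^ (wfun q (2 * g.natDegree)) - C (g.coeff 0 ^ (q - 1))) :
    ∃ n0 m' : ℕ, 1 ≤ n0 ∧ 1 ≤ m' ∧ n0 * m' = n ∧ H ^ Efun q n0 = 1 ∧
      H ^ (wfun q n0 * m') = 1 := by
  classical
  have hφφ : ∀ x, φ (φ x) = x := frob_frob hF φ hφ
  have hq2 : 2 ≤ q := two_le_q hF
  set f' := dagger φ f with hf'
  obtain ⟨hf'm, hf'deg, hf'0, -⟩ := Cfsg.Agent.Helper10.PU.dagger_facts φ hφφ f hf0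
  have hf'irr : Irreducible f' :=
    (Cfsg.Agent.Helper10.PU.dagger_mul_irreducible φ hφφ).2 f hf0 hirr
  set e := f.natDegree with he
  have he1 : 1 ≤ e := by
    have := hirr.natDegree_pos
    omega
  -- the characteristic polynomial is a power of the minimal polynomial
  have hχ1 : H.charpoly ∣ (minpoly F H) ^ n := charpoly_dvd_minpoly_pow H
  obtain ⟨hχ0, hχd⟩ := dagger_charpoly φ hφφ H hU
  obtain ⟨m', hm'⟩ := charpoly_eq_pow φ hφφ f (minpoly F H) H.charpoly n hf hirr hf0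
    (Or.inr ⟨hμ, hdag⟩) (Matrix.charpoly_monic H) hχ0 hχd hχ1
  have hμm : (f * f').Monic := hf.mul hf'm
  have hμdeg : (f * f').natDegree = 2 * e := by
    rw [hf.natDegree_mul hf'm, hf'deg]; ring
  have hnm : n = m' * (2 * e) := by
    have h1 : H.charpoly.natDegree = n := by
      rw [Matrix.charpoly_natDegree_eq_dim]; simp
    rw [hm', hμ, hμm.natDegree_pow, hμdeg] at h1
    exact h1.symm
  have hm'1 : 1 ≤ m' := by
    rcases Nat.eq_zero_or_pos m' with h | h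
    · rw [h] at hnm; omega
    · exact h
  -- coprimality of f and f'
  have hcop : IsCoprime f f' := by
    rcases (EuclideanDomain.dvd_or_coprime f f' hirr) with h | h
    · exfalso
      apply hdag
      have := eq_of_monic_of_associated hf hf'm
        (hirr.associated_of_dvd hf'irr h)
      exact this.symm
    · exact h
  -- pair_dvd for f and f'
  obtain ⟨hfE, hfw⟩ := hpair f hf hirr hf0
  obtain ⟨hf'E, -⟩ := hpair f' hf'm hf'irr hf'0
  rw [hf'deg] at hf'E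
  have hμE : minpoly F H ∣ X ^ (Efun q (2 * e)) - C (1 : F) := by
    rw [hμ, map_one]
    exact hcop.mul_dvd hfE hf'E
  have hHE : H ^ Efun q (2 * e) = 1 := by
    rw [pu3_singleii_pow_of_dvd H _ _ hμE, one_smul]
  -- the constant c
  set c : F := f.coeff 0 ^ (q - 1) with hc
  have hcard : ∀ x : F, x ≠ 0 → x ^ (q ^ 2 - 1) = 1 := by
    intro x hx
    rw [← hF]
    exact FiniteField.pow_card_sub_one_eq_one x hx
  have hq1 : (q - 1) * (q + 1) = q ^ 2 - 1 := by
    have : q ^ 2 = (q - 1) * (q + 1) + 1 := by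
      obtain ⟨k, rfl⟩ : ∃ k, q = k + 1 := ⟨q - 1, by omega⟩
      simp only [Nat.add_sub_cancel]; ring
    omega
  have hcφ : c * φ c = 1 := by
    rw [hφ, ← pow_succ', hc, ← pow_mul, hq1]
    exact hcard _ hf0
  have hw0 : 0 < wfun q (2 * e) := (gcd_dvd_wfun q (2 * e) hq2 (by omega)).2
  have hμw : minpoly F H ∣ X ^ (wfun q (2 * e)) - C c :=
    orbit_dvd φ hφφ f (minpoly F H) hf hirr hf0 (Or.inr ⟨hμ, hdag⟩) _ hw0 c hcφ hfw
  have hHw : H ^ wfun q (2 * e) = c • (1 : Matrix (Fin n) (Fin n) F) :=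
    pu3_singleii_pow_of_dvd H _ _ hμw
  -- the determinant
  have hf'c : f'.coeff 0 = (φ (f.coeff 0))⁻¹ := dagger_coeff_zero φ f hf hf0
  have hdet2 : H.det = ((f.coeff 0) * (φ (f.coeff 0))⁻¹) ^ m' := by
    have h1 := Matrix.det_eq_sign_charpoly_coeff H
    rw [h1, hm', hμ]
    simp only [Fintype.card_fin]
    have hev : Even n := by rw [hnm]; exact ⟨m' * e, by ring⟩
    rw [hev.neg_one_pow, one_mul, coeff_zero_eq_eval_zero, eval_pow, eval_mul,
      ← coeff_zero_eq_eval_zero, ← coeff_zero_eq_eval_zero, hf'c]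
  have hcinv : (f.coeff 0) * (φ (f.coeff 0))⁻¹ * c = 1 := by
    have hφ0 : φ (f.coeff 0) ≠ 0 := (map_ne_zero φ).2 hf0
    rw [hc, hφ]
    have : f.coeff 0 * f.coeff 0 ^ (q - 1) = f.coeff 0 ^ q := by
      rw [← pow_succ']; congr 1; omega
    rw [mul_assoc, mul_comm _ (f.coeff 0 ^ (q - 1)), ← mul_assoc, this]
    exact mul_inv_cancel₀ (by rw [← hφ]; exact hφ0)
  have hcm : c ^ m' = 1 := by
    have h1 : ((f.coeff 0) * (φ (f.coeff 0))⁻¹) ^ m' * c ^ m' = 1 := by
      rw [← mul_pow, hcinv, one_pow]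
    rw [← hdet2, hdet, one_mul] at h1
    exact h1
  refine ⟨2 * e, m', by omega, hm'1, by rw [hnm]; ring, hHE, ?_⟩
  rw [pow_mul, hHw, _root_.smul_pow, one_pow, hcm, one_smul]

end fin

end Cfsg.Agent.Helper16.PU3
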