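import Mathlib
import Cfsg.Agent.Lib.PU3.PU3FLDII
import Cfsg.Agent.Lib.PU3.PU3SINGLEIICore

/-!
# S2511 piece PU3-SINGLEII (helper18): minimal polynomial `f * dagger f`
(wrapper: `pu3_singleii_core` + the landed `pair_dvd`)
-/

set_option autoImplicit false
set_option linter.unusedSectionVars false
set_option linter.unusedVariables false

namespace Cfsg.Agent.Helper16.PU3

open Polynomial Matrix
open Cfsg.Agent.Helper11.Herm
open Cfsg.Agent.Helper10.PU (dagger Efun wfun)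
open Cfsg.Agent.Helper21.PL3 (Good)

section fin

variable {F : Type*} [Field F] [Fintype F] {q : ℕ}

/-- PIECE PU3-SINGLEII. -/
theorem single_II (hF : Fintype.card F = q ^ 2) (φ : F →+* F) (hφ : ∀ x, φ x = x ^ q) (n : ℕ)
    (hn : 1 ≤ n) (H : Matrix (Fin n) (Fin n) F) (hU : IsU φ H) (hdet : H.det = 1) (f : F[X])
    (hf : f.Monic) (hirr : Irreducible f) (hf0 : f.coeff 0 ≠ 0)
    (hμ : minpoly F H = f * dagger φ f) (hdag : dagger φ f ≠ f) :
    ∃ n0 m' : ℕ, 1 ≤ n0 ∧ 1 ≤ m' ∧ n0 * m' = n ∧ H ^ Efun q n0 = 1 ∧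
      H ^ (wfun q n0 * m') = 1 :=
  pu3_singleii_core hF φ hφ n hn H hU hdet f hf hirr hf0 hμ hdag
    (fun g hg hgi hg0 => pair_dvd (q := q) hF g hg hgi hg0)

end fin

end Cfsg.Agent.Helper16.PU3
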