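import Mathlib
import Cfsg.Prelude.Def_Classical
import Cfsg.Agent.Lib.Helper10.PUDefs
import Cfsg.Agent.Lib.Helper21.PL3Defs
import Cfsg.Agent.Lib.Helper16.PU3Defs
import Cfsg.Agent.Lib.Helper11.Unitary3

/-!
# S2511, piece PU3-SINGLETAIL (helper8), core: `H ^ wfun q n = 1` with single-orbit minimal polynomial
gives `H ^ MU q n` scalar.  The statements of PU3-ROOTD, PU3-ORBDVD, PU3-NUMD are hypotheses here.
-/

set_option autoImplicit false
set_option linter.unusedSectionVars false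
set_option linter.unusedVariables false

namespace Cfsg.Agent.Helper16.PU3

open Polynomial Matrix
open Cfsg.Agent.Helper11.Herm
open Cfsg.Agent.Helper10.PU (dagger Efun wfun)
open Cfsg.Agent.Helper21.PL3 (Good)

variable {F : Type*} [Field F] [Fintype F] {q : ℕ}

theorem pu3_singletail_core (hF : Fintype.card F = q ^ 2) (φ : F →+* F) (hφ : ∀ x, φ x = x ^ q)
    (n : ℕ) (hn : 1 ≤ n) (H : Matrix (Fin n) (Fin n) F) (f : F[X]) (hf : f.Monic)
    (hirr : Irreducible f) (hf0 : f.coeff 0 ≠ 0)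
    (hμ : (minpoly F H = f ∧ dagger φ f = f) ∨ (minpoly F H = f * dagger φ f ∧ dagger φ f ≠ f))
    (hpow : H ^ wfun q n = 1)
    (hnumd : Nat.gcd n (q + 1) ∣ wfun q n ∧ 0 < wfun q n)
    (hrootd : ∀ (f : F[X]), f.Monic → Irreducible f → ∀ (w d : ℕ), 0 < d → d ∣ w →
      d ∣ Fintype.card F - 1 → f ∣ X ^ w - 1 → ∃ c : F, c ^ d = 1 ∧ f ∣ X ^ (w / d) - C c)
    (horb : ∀ (f μ : F[X]), f.Monic → Irreducible f → f.coeff 0 ≠ 0 →
      ((μ = f ∧ dagger φ f = f) ∨ (μ = f * dagger φ f ∧ dagger φ f ≠ f)) →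
      ∀ (s : ℕ), 0 < s → ∀ (c : F), c * φ c = 1 → f ∣ X ^ s - C c → μ ∣ X ^ s - C c) :
    ∃ c : F, H ^ MU q n = c • (1 : Matrix (Fin n) (Fin n) F) := by
  classical
  obtain ⟨hdw, hw0⟩ := hnumd
  set w := wfun q n with hw
  set d := Nat.gcd n (q + 1) with hd
  have hq2 : 2 ≤ q := two_le_q hF
  have hd0 : 0 < d := Nat.gcd_pos_of_pos_left _ (by omega)
  have hdq : d ∣ q + 1 := Nat.gcd_dvd_right _ _
  have hdF : d ∣ Fintype.card F - 1 := by
    rw [hF, sq_sub_one q (by omega)]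
    exact hdq.trans (Dvd.intro _ rfl)
  -- `f` divides the minimal polynomial
  have hfμ : f ∣ minpoly F H := by
    rcases hμ with ⟨h1, -⟩ | ⟨h1, -⟩
    · rw [h1]
    · rw [h1]; exact Dvd.intro _ rfl
  -- the minimal polynomial divides `X ^ w - 1`
  have hμw : minpoly F H ∣ X ^ w - 1 := by
    apply minpoly.dvd
    rw [map_sub, map_pow, aeval_X, map_one, hpow, sub_self]
  obtain ⟨c, hcd, hfc⟩ := hrootd f hf hirr w d hd0 hdw hdF (hfμ.trans hμw)
  have hMU : MU q n = w / d := rfl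
  have hs0 : 0 < w / d := Nat.div_pos (Nat.le_of_dvd hw0 hdw) hd0
  have hcφ : c * φ c = 1 := by
    rw [hφ, ← pow_succ']
    obtain ⟨k, hk⟩ := hdq
    rw [hk, pow_mul, hcd, one_pow]
  have hμc : minpoly F H ∣ X ^ (w / d) - C c :=
    horb f (minpoly F H) hf hirr hf0 hμ (w / d) hs0 c hcφ hfc
  refine ⟨c, ?_⟩
  have h0 : aeval H (X ^ (w / d) - C c : F[X]) = 0 :=
    aeval_eq_zero_of_dvd_aeval_eq_zero hμc (minpoly.aeval F H)
  rw [map_sub, map_pow, aeval_X, aeval_C, sub_eq_zero] at h0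
  rw [hMU, h0, Algebra.algebraMap_eq_smul_one]

end Cfsg.Agent.Helper16.PU3
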