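import Mathlib
import Cfsg.Prelude.Def_Classical
import Cfsg.Agent.Lib.Helper10.PUDefs
import Cfsg.Agent.Lib.Helper21.PL3Defs
import Cfsg.Agent.Lib.Helper16.PU3Defs
import Cfsg.Agent.Lib.Helper11.Unitary3
import Cfsg.Agent.Lib.PU3.PU3ROOTD
import Cfsg.Agent.Lib.PU3.PU3ORBDVD
import Cfsg.Agent.Lib.PU3.PU3NUMD
import Cfsg.Agent.Lib.PU3.PU3SINGLETAILCore

/-!
# S2511, piece PU3-SINGLETAIL (helper8): `H ^ wfun q n = 1`, single orbit => `H ^ MU q n` scalar.
-/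

set_option autoImplicit false
set_option linter.unusedSectionVars false
set_option linter.unusedVariables false

namespace Cfsg.Agent.Helper16.PU3

open Polynomial Matrix
open Cfsg.Agent.Helper11.Herm
open Cfsg.Agent.Helper10.PU (dagger Efun wfun)
open Cfsg.Agent.Helper21.PL3 (Good)

variable {F : Type*} [Field F] [Fintype F] {q : ℕ}

/-- PIECE PU3-SINGLETAIL [L3: irreducible_dvd_of_dvd, orbit_dvd, gcd_dvd_wfun]. -/
theorem single_tail (hF : Fintype.card F = q ^ 2) (φ : F →+* F) (hφ : ∀ x, φ x = x ^ q) (n : ℕ)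
    (hn : 1 ≤ n) (H : Matrix (Fin n) (Fin n) F) (f : F[X]) (hf : f.Monic) (hirr : Irreducible f)
    (hf0 : f.coeff 0 ≠ 0)
    (hμ : (minpoly F H = f ∧ dagger φ f = f) ∨ (minpoly F H = f * dagger φ f ∧ dagger φ f ≠ f))
    (hpow : H ^ wfun q n = 1) :
    ∃ c : F, H ^ MU q n = c • (1 : Matrix (Fin n) (Fin n) F) :=
  pu3_singletail_core hF φ hφ n hn H f hf hirr hf0 hμ hpow
    (gcd_dvd_wfun q n (two_le_q hF) hn)
    (fun f hf hirr w d hd0 hd hdF h => irreducible_dvd_of_dvd f hf hirr w d hd0 hd hdF h)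
    (fun f μ hf hirr hf0 hμ s hs c hc h =>
      orbit_dvd φ (frob_frob hF φ hφ) f μ hf hirr hf0 hμ s hs c hc h)

end Cfsg.Agent.Helper16.PU3
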