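import Mathlib
import Cfsg.Prelude.Def_Classical
import Cfsg.Agent.Lib.Helper10.PUDefs
import Cfsg.Agent.Lib.Helper16.PU3Defs
import Cfsg.Agent.Lib.Helper11.Unitary3
import Cfsg.Agent.Lib.Helper11.HermCount
import Cfsg.Agent.Lib.PU3.PU3ARITHW
import Cfsg.Agent.Lib.PU3.PU3SINGLEI
import Cfsg.Agent.Lib.PU3.PU3SINGLEII
import Cfsg.Agent.Lib.PU3.PU3SINGLETAIL

/-!
# S2511 piece PU3-SINGLE (helper16): a unitary matrix of determinant one whose minimal polynomial is a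
single dagger-orbit has a scalar `MU q n`-th power.
-/

set_option autoImplicit false

namespace Cfsg.Agent.Helper16.PU3

open Polynomial Matrix
open Cfsg.Agent.Helper11.Herm
open Cfsg.Agent.Helper10.PU (dagger Efun wfun)

section fin

variable {F : Type*} [Field F] [Fintype F] {q : ℕ}

/-- PIECE PU3-SINGLE. -/
theorem single_orbit_scalar (hF : Fintype.card F = q ^ 2) (φ : F →+* F) (hφ : ∀ x, φ x = x ^ q)
    (n : ℕ) (hn : 1 ≤ n) (H : Matrix (Fin n) (Fin n) F) (hU : IsU φ H) (hdet : H.det = 1)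
    (f : F[X]) (hf : f.Monic) (hirr : Irreducible f) (hf0 : f.coeff 0 ≠ 0)
    (hμ : (minpoly F H = f ∧ dagger φ f = f) ∨ (minpoly F H = f * dagger φ f ∧ dagger φ f ≠ f)) :
    ∃ c : F, H ^ MU q n = c • (1 : Matrix (Fin n) (Fin n) F) := by
  have hq2 : 2 ≤ q := two_le_q hF
  have hdata : ∃ n0 m' : ℕ, 1 ≤ n0 ∧ 1 ≤ m' ∧ n0 * m' = n ∧ H ^ Efun q n0 = 1 ∧
      H ^ (wfun q n0 * m') = 1 := by
    rcases hμ with ⟨h1, h2⟩ | ⟨h1, h2⟩
    · exact single_I hF φ hφ n hn H hU hdet f hf hirr hf0 h1 h2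
    · exact single_II hF φ hφ n hn H hU hdet f hf hirr hf0 h1 h2
  obtain ⟨n0, m', hn0, hm', hnm, hE, hw⟩ := hdata
  have hdet0 : H.det ≠ 0 := by rw [hdet]; exact one_ne_zero
  let u : GL (Fin n) F := Matrix.GeneralLinearGroup.mkOfDetNeZero H hdet0
  have hu : ∀ k : ℕ, ((u ^ k : GL (Fin n) F) : Matrix (Fin n) (Fin n) F) = H ^ k := by
    intro k
    rw [Units.val_pow_eq_pow_val]
    rfl
  have h1 : u ^ Efun q n0 = 1 := by
    apply Units.ext
    rw [hu, hE]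
    rfl
  have h2 : u ^ (wfun q n0 * m') = 1 := by
    apply Units.ext
    rw [hu, hw]
    rfl
  have h3 := pow_wfun_eq_one u q n0 m' hq2 hn0 hm' h1 h2
  have hpow : H ^ wfun q n = 1 := by
    have h4 : H ^ wfun q (n0 * m') = 1 := by
      rw [← hu, h3]
      rfl
    rw [hnm] at h4
    exact h4
  exact single_tail hF φ hφ n hn H f hf hirr hf0 hμ hpow

end fin

end Cfsg.Agent.Helper16.PU3
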