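import Mathlib
import Cfsg.Prelude.Def_Classical
import Cfsg.Agent.Lib.Helper10.PUDefs
import Cfsg.Agent.Lib.Helper16.PU3Defs
import Cfsg.Agent.Lib.Helper16.PUEDefs
import Cfsg.Agent.Lib.Helper11.Unitary3
import Cfsg.Agent.Lib.Helper11.UnitaryGeom
import Cfsg.Agent.Lib.Helper27.PUNUMDVD
import Cfsg.Agent.Lib.PUE.PUECONG
import Cfsg.Agent.Lib.PUE.PUECONJ
import Cfsg.Agent.Lib.PUE.PUEHYP
import Cfsg.Agent.Lib.PU3.PU3SINGER2
import Cfsg.Agent.Lib.PU3.PU3NUMD

/-! # S2511 piece PU3-TOREVEN (helper10): for `n` even, an element of `SU_n(q)` (as a matrix) of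
order `wfun q n = (q^n-1)/(q+1)` whose `wfun q n / gcd(n, q+1)`-th power is scalar. -/

set_option autoImplicit false
set_option linter.unusedSectionVars false
set_option linter.unusedVariables false

namespace Cfsg.Agent.Helper16.PU3

open Polynomial Matrix
open Cfsg.Agent.Helper11.Herm
open Cfsg.Agent.Helper10.PU (dagger Efun wfun Jhyp hypEmb)

section abs

variable {F : Type*} [Field F]

/-- powers of a reindexed matrix -/
theorem pu3_toreven_submatrix_pow {ι ι' : Type} [Fintype ι] [DecidableEq ι] [Fintype ι']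
    [DecidableEq ι'] (e : ι ≃ ι') (B : Matrix ι ι F) (k : ℕ) :
    (B.submatrix e.symm e.symm) ^ k = (B ^ k).submatrix e.symm e.symm := by
  induction k with
  | zero => rw [pow_zero, pow_zero, Matrix.submatrix_one_equiv]
  | succ k ih => rw [pow_succ, pow_succ, ih, Matrix.submatrix_mul_equiv]

/-- a reindexed scalar matrix is scalar -/
theorem pu3_toreven_submatrix_smul_one {ι ι' : Type} [Fintype ι] [DecidableEq ι] [Fintype ι']
    [DecidableEq ι'] (e : ι ≃ ι') (c : F) :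
    (c • (1 : Matrix ι ι F)).submatrix e.symm e.symm = c • (1 : Matrix ι' ι' F) := by
  ext i j
  simp [Matrix.submatrix_apply, Matrix.one_apply]

/-- reindexing preserves the order -/
theorem pu3_toreven_submatrix_orderOf {ι ι' : Type} [Fintype ι] [DecidableEq ι] [Fintype ι']
    [DecidableEq ι'] (e : ι ≃ ι') (B : Matrix ι ι F) :
    orderOf (B.submatrix e.symm e.symm) = orderOf B := by
  apply orderOf_eq_orderOf_iff.mpr
  intro k
  rw [pu3_toreven_submatrix_pow]
  constructor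
  · intro h
    have h1 := congrArg (fun X : Matrix ι' ι' F => X.submatrix e e) h
    simpa using h1
  · intro h
    rw [h, Matrix.submatrix_one_equiv]

/-- the hyperbolic embedding of a scalar `c` with `c * φ c = 1` is the scalar `c` -/
theorem pu3_toreven_hypEmb_smul (φ : F →+* F) {κ : Type} [Fintype κ] [DecidableEq κ] (c : F)
    (hc : c * φ c = 1) :
    hypEmb φ (c • (1 : Matrix κ κ F)) = c • (1 : Matrix (κ ⊕ κ) (κ ⊕ κ) F) := by
  have h1 : ((c • (1 : Matrix κ κ F)).map φ)ᵀ = φ c • (1 : Matrix κ κ F) := by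
    ext i j
    by_cases hij : i = j
    · subst hij; simp
    · have hji : j ≠ i := fun h => hij h.symm
      simp [Matrix.one_apply, hij, hji]
  have h2 : (((c • (1 : Matrix κ κ F)).map φ)ᵀ)⁻¹ = c • (1 : Matrix κ κ F) := by
    apply Matrix.inv_eq_right_inv
    rw [h1, Matrix.smul_mul, Matrix.mul_smul, Matrix.one_mul, smul_smul, mul_comm, hc, one_smul]
  unfold hypEmb
  rw [h2, ← Matrix.fromBlocks_one, Matrix.fromBlocks_smul, smul_zero]

end abs

section fin

variable {F : Type*} [Field F] [Fintype F] {q : ℕ}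

/-- PIECE PU3-TOREVEN [L2]. -/
theorem exists_torus_even (hF : Fintype.card F = q ^ 2) (φ : F →+* F) (hφ : ∀ x, φ x = x ^ q)
    (n : ℕ) (hn : Even n) (hn1 : 1 ≤ n) :
    ∃ A : Matrix (Fin n) (Fin n) F, IsU φ A ∧ A.det = 1 ∧ orderOf A = wfun q n ∧
      ∃ c : F, A ^ (wfun q n / Nat.gcd n (q + 1)) = c • (1 : Matrix (Fin n) (Fin n) F) := by
  classical
  obtain ⟨k, hk⟩ := hn
  have hk1 : 1 ≤ k := by omega
  have hn2 : n = 2 * k := by omega
  have hq2 : 2 ≤ q := two_le_q hF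
  have hφφ := frob_frob hF φ hφ
  -- arithmetic
  have hE : Efun q n = q ^ n - 1 := by
    unfold Efun
    rw [if_pos ⟨k, hk⟩]
  have hdvd : (q + 1) ∣ q ^ n - 1 := hE ▸ Cfsg.Agent.Helper10.PU.succ_dvd_Efun q n hn1
  have hw : wfun q n = (q ^ n - 1) / (q + 1) := by unfold wfun; rw [hE]
  have hwmul : (q + 1) * wfun q n = q ^ n - 1 := by rw [hw, Nat.mul_div_cancel' hdvd]
  obtain ⟨hdw, hwpos⟩ := gcd_dvd_wfun q n hq2 hn1
  set d := Nat.gcd n (q + 1) with hd
  have hdq : d ∣ q + 1 := Nat.gcd_dvd_right n (q + 1)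
  have hdF : d ∣ Fintype.card F - 1 := by
    have h1 : q ^ 2 - 1 = (q + 1) * (q - 1) := by
      have := Nat.sq_sub_sq q 1
      simpa using this
    rw [hF, h1]
    exact hdq.mul_right _
  have hcardpow : Fintype.card F ^ k - 1 = q ^ n - 1 := by
    rw [hF, ← pow_mul, hn2]
  -- Singer cycle
  obtain ⟨S, hSdet, hSo, hSsc⟩ := exists_singer_scalar (F := F) k hk1
  obtain ⟨c, hcd, hSc⟩ := hSsc d hdF
  rw [hcardpow] at hSo hSc
  have hcq : c ^ (q + 1) = 1 := by
    obtain ⟨e, he⟩ := hdq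
    rw [he, pow_mul, hcd, one_pow]
  have hcφ : c * φ c = 1 := by
    rw [hφ, ← pow_succ', hcq]
  -- `S1 = S ^ (q + 1)`
  set S1 : Matrix (Fin k) (Fin k) F := S ^ (q + 1) with hS1
  have hS1det : S1.det ≠ 0 := by
    rw [hS1, Matrix.det_pow]
    exact pow_ne_zero _ hSdet
  have hS1o : orderOf S1 = wfun q n := by
    rw [hS1, orderOf_pow' S (Nat.succ_ne_zero q), hSo, Nat.gcd_eq_right hdvd, hw]
  have hS1pow : S1 ^ (wfun q n / d) = c • (1 : Matrix (Fin k) (Fin k) F) := by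
    rw [hS1, ← pow_mul, ← hSc]
    congr 1
    rw [← Nat.mul_div_assoc _ hdw, hwmul]
  obtain ⟨hJ, hJd, hinv, hord⟩ := Cfsg.Agent.Helper10.PU.hyp_block φ hφφ S1 hS1det
  set A1 : Matrix (Fin k ⊕ Fin k) (Fin k ⊕ Fin k) F := hypEmb φ S1 with hA1
  have hA1pow : ∀ m : ℕ, A1 ^ m = hypEmb φ (S1 ^ m) := by
    intro m
    exact (map_pow (Cfsg.Agent.Helper10.PU.pue_hyp_hom φ (Fin k)) S1 m).symm
  have hA1sc : A1 ^ (wfun q n / d) = c • (1 : Matrix (Fin k ⊕ Fin k) (Fin k ⊕ Fin k) F) := by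
    rw [hA1pow, hS1pow, pu3_toreven_hypEmb_smul φ c hcφ]
  have hA1det : A1.det = 1 := by
    have hx : S.det ^ (Fintype.card F) = S.det := FiniteField.pow_card _
    have hy : (S1.det) ^ q = S1.det := by
      rw [hS1, Matrix.det_pow, ← pow_mul]
      have : (q + 1) * q = q ^ 2 + q := by ring
      rw [this, pow_add, ← hF, hx, pow_succ']
    have hdetφ : (S1.map φ).det = S1.det := by
      have h1 : (S1.map φ).det = φ S1.det := by
        rw [RingHom.map_det]; rfl
      rw [h1, hφ, hy]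
    rw [hA1]
    unfold hypEmb
    rw [Matrix.det_fromBlocks_zero₂₁, Matrix.det_nonsing_inv, Matrix.det_transpose, hdetφ,
      Ring.inverse_eq_inv']
    exact mul_inv_cancel₀ hS1det
  -- transport to the standard form
  obtain ⟨P, hP⟩ := Cfsg.Agent.Helper10.PU.exists_cong φ hφφ (frob_norm_surj hF φ hφ)
    (frob_trace_ne_zero hF φ hφ) (Jhyp F (Fin k)) hJ hJd
  obtain ⟨hU, ho⟩ := Cfsg.Agent.Helper10.PU.isU_conj_of_cong φ _ P A1 hP hinv
  have hPdet : IsUnit P.det := by
    have h := congrArg Matrix.det hP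
    rw [Matrix.det_mul, Matrix.det_mul, Matrix.det_transpose, Matrix.det_one] at h
    rw [isUnit_iff_ne_zero]
    intro h0
    rw [h0, zero_mul, zero_mul] at h
    exact zero_ne_one h
  have hPunit : IsUnit P := (Matrix.isUnit_iff_isUnit_det P).2 hPdet
  set B : Matrix (Fin k ⊕ Fin k) (Fin k ⊕ Fin k) F := P⁻¹ * A1 * P with hB
  let e : Fin k ⊕ Fin k ≃ Fin n :=
    Fintype.equivFinOfCardEq (by rw [Fintype.card_sum, Fintype.card_fin]; omega)
  refine ⟨B.submatrix e.symm e.symm, (isU_submatrix_iff φ e B).2 hU, ?_, ?_, c, ?_⟩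
  · rw [Matrix.det_submatrix_equiv_self, hB, Matrix.det_conj' hPunit, hA1det]
  · rw [pu3_toreven_submatrix_orderOf, ho, hord, hS1o]
  · rw [pu3_toreven_submatrix_pow, hB, Cfsg.Agent.Helper10.PU.pue_conj_pow P A1 hPdet, hA1sc,
      Matrix.mul_smul, Matrix.smul_mul, Matrix.mul_one, Matrix.nonsing_inv_mul P hPdet,
      pu3_toreven_submatrix_smul_one]

end fin

end Cfsg.Agent.Helper16.PU3
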