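import Mathlib
import Cfsg.Prelude.Def_Classical
import Cfsg.Agent.Lib.Helper10.PUDefs
import Cfsg.Agent.Lib.Helper21.PL3Defs
import Cfsg.Agent.Lib.Helper16.PU3Defs
import Cfsg.Agent.Lib.Helper16.PUEDefs
import Cfsg.Agent.Lib.Helper11.Unitary3
import Cfsg.Agent.Lib.Helper11.UnitaryGeom
import Cfsg.Agent.Lib.Helper27.PUNUMDVD
import Cfsg.Agent.Lib.PUE.PUEHYP
import Cfsg.Agent.Lib.PUE.PUECONG
import Cfsg.Agent.Lib.PUE.PUECONJ
import Cfsg.Agent.Lib.PUE.PUEBLOCK
import Cfsg.Agent.Lib.PU3.PU3NUMD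

/-!
# S2511, piece PU3-TOREVEN, core (helper8): for `n` even, a torus element of `SU_n(q)` of order
`wfun q n` whose `(wfun q n / gcd n (q+1))`-th power is scalar.  The statement of PU3-SINGER2
(`exists_singer_scalar`, at `k = n / 2`) is a hypothesis here.
-/

set_option autoImplicit false
set_option linter.unusedSectionVars false
set_option linter.unusedVariables false

namespace Cfsg.Agent.Helper16.PU3

open Polynomial Matrix
open Cfsg.Agent.Helper11.Herm
open Cfsg.Agent.Helper10.PU (dagger Efun wfun Jhyp hypEmb)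
open Cfsg.Agent.Helper21.PL3 (Good)

variable {F : Type*} [Field F] [Fintype F] {q : ℕ}

omit [Fintype F] in
/-- the hyperbolic embedding of a norm-one scalar is that scalar -/
theorem pu3_toreven_core_hypEmb_smul (φ : F →+* F) (k : ℕ) (c : F) (hc : c * φ c = 1) :
    hypEmb φ (c • (1 : Matrix (Fin k) (Fin k) F)) =
      c • (1 : Matrix (Fin k ⊕ Fin k) (Fin k ⊕ Fin k) F) := by
  unfold hypEmb
  have h1 : ((c • (1 : Matrix (Fin k) (Fin k) F)).map φ)ᵀ = φ c • (1 : Matrix (Fin k) (Fin k) F) := by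
    rw [Matrix.smul_one_eq_diagonal, Matrix.diagonal_map (map_zero φ), Matrix.diagonal_transpose,
      ← Matrix.smul_one_eq_diagonal]
  have h2 : (φ c • (1 : Matrix (Fin k) (Fin k) F))⁻¹ = c • (1 : Matrix (Fin k) (Fin k) F) := by
    apply Matrix.inv_eq_right_inv
    rw [Matrix.smul_mul, Matrix.mul_smul, Matrix.one_mul, smul_smul, mul_comm, hc, one_smul]
  rw [h1, h2]
  have h3 : (c • (1 : Matrix (Fin k ⊕ Fin k) (Fin k ⊕ Fin k) F)) =
      fromBlocks (c • (1 : Matrix (Fin k) (Fin k) F)) 0 0 (c • (1 : Matrix (Fin k) (Fin k) F)) := by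
    rw [← Matrix.fromBlocks_one, Matrix.fromBlocks_smul, smul_zero]
  rw [h3]

theorem pu3_toreven_core (hF : Fintype.card F = q ^ 2) (φ : F →+* F) (hφ : ∀ x, φ x = x ^ q)
    (n : ℕ) (hn : Even n) (hn1 : 1 ≤ n)
    (hsing : ∀ k : ℕ, 1 ≤ k →
      ∃ S : Matrix (Fin k) (Fin k) F, S.det ≠ 0 ∧ orderOf S = Fintype.card F ^ k - 1 ∧
        ∀ d : ℕ, d ∣ Fintype.card F - 1 →
          ∃ c : F, c ^ d = 1 ∧
            S ^ ((Fintype.card F ^ k - 1) / d) = c • (1 : Matrix (Fin k) (Fin k) F)) :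
    ∃ A : Matrix (Fin n) (Fin n) F, IsU φ A ∧ A.det = 1 ∧ orderOf A = wfun q n ∧
      ∃ c : F, A ^ (wfun q n / Nat.gcd n (q + 1)) = c • (1 : Matrix (Fin n) (Fin n) F) := by
  classical
  have hq2 : 2 ≤ q := two_le_q hF
  have hφφ := frob_frob hF φ hφ
  obtain ⟨k, hk⟩ := hn
  have hk1 : 1 ≤ k := by omega
  obtain ⟨S, hSdet, hSo, hSs⟩ := hsing k hk1
  -- numerics
  have hEf : Efun q n = q ^ n - 1 := by
    unfold Cfsg.Agent.Helper10.PU.Efun
    rw [if_pos ⟨k, hk⟩]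
  have hq1dvd : q + 1 ∣ q ^ n - 1 := by
    have := Cfsg.Agent.Helper10.PU.succ_dvd_Efun q n hn1
    rwa [hEf] at this
  obtain ⟨hdw, hw0⟩ := gcd_dvd_wfun q n hq2 hn1
  have hw : wfun q n = (q ^ n - 1) / (q + 1) := by
    unfold Cfsg.Agent.Helper10.PU.wfun
    rw [hEf]
  set w := wfun q n with hwdef
  set d := Nat.gcd n (q + 1) with hd
  have hd0 : 0 < d := Nat.gcd_pos_of_pos_left _ hn1
  have hdq : d ∣ q + 1 := Nat.gcd_dvd_right _ _
  have hdF : d ∣ Fintype.card F - 1 := by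
    rw [hF, sq_sub_one q (by omega)]
    exact hdq.trans (Dvd.intro _ rfl)
  have hcard : Fintype.card F ^ k - 1 = q ^ n - 1 := by
    rw [hF, ← pow_mul, hk, two_mul]
  have hqw : q ^ n - 1 = (q + 1) * w := by
    rw [hw, Nat.mul_div_cancel' hq1dvd]
  -- the Singer power
  set S1 : Matrix (Fin k) (Fin k) F := S ^ (q + 1) with hS1
  have hS1det : S1.det ≠ 0 := by
    rw [hS1, Matrix.det_pow]; exact pow_ne_zero _ hSdet
  have hS1o : orderOf S1 = w := by
    rw [hS1, orderOf_pow' S (by omega : q + 1 ≠ 0), hSo, hcard, Nat.gcd_eq_right hq1dvd, hw]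
  set A0 : Matrix (Fin k ⊕ Fin k) (Fin k ⊕ Fin k) F := hypEmb φ S with hA0
  set A1 : Matrix (Fin k ⊕ Fin k) (Fin k ⊕ Fin k) F := hypEmb φ S1 with hA1
  have hhom : ∀ (T : Matrix (Fin k) (Fin k) F) (m : ℕ), hypEmb φ (T ^ m) = (hypEmb φ T) ^ m := by
    intro T m
    exact map_pow (Cfsg.Agent.Helper10.PU.pue_hyp_hom φ (Fin k)) T m
  have hA1pow : A1 = A0 ^ (q + 1) := by rw [hA1, hS1, hhom]
  obtain ⟨hJ, hJd, hinv0, -⟩ := Cfsg.Agent.Helper10.PU.hyp_block φ hφφ S hSdet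
  obtain ⟨-, -, hinv1, hord1⟩ := Cfsg.Agent.Helper10.PU.hyp_block φ hφφ S1 hS1det
  -- determinant
  have hδ : A0.det * φ A0.det = 1 := by
    have h := congrArg Matrix.det hinv0
    rw [Matrix.det_mul, Matrix.det_mul, Matrix.det_transpose] at h
    have h2 : ((hypEmb φ S).map φ).det = φ (hypEmb φ S).det := by
      rw [RingHom.map_det]; rfl
    rw [h2] at h
    have h3 : (A0.det * φ A0.det) * (Jhyp F (Fin k)).det = 1 * (Jhyp F (Fin k)).det := by
      rw [hA0]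
      linear_combination h
    exact mul_right_cancel₀ hJd h3
  have hdetA1 : A1.det = 1 := by
    rw [hA1pow, Matrix.det_pow, pow_succ', ← hφ]
    exact hδ
  -- the scalar power
  obtain ⟨c, hcd, hSc⟩ := hSs d hdF
  have hcφ : c * φ c = 1 := by
    rw [hφ, ← pow_succ']
    obtain ⟨j, hj⟩ := hdq
    rw [hj, pow_mul, hcd, one_pow]
  have hexp : (q + 1) * (w / d) = (Fintype.card F ^ k - 1) / d := by
    rw [hcard, hqw, Nat.mul_div_assoc _ hdw]
  have hA1s : A1 ^ (w / d) = c • (1 : Matrix (Fin k ⊕ Fin k) (Fin k ⊕ Fin k) F) := by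
    rw [hA1, ← hhom, hS1, ← pow_mul, hexp, hSc]
    exact pu3_toreven_core_hypEmb_smul φ k c hcφ
  -- to the standard form
  obtain ⟨P, hP⟩ := Cfsg.Agent.Helper10.PU.exists_cong φ hφφ (frob_norm_surj hF φ hφ)
    (frob_trace_ne_zero hF φ hφ) (Jhyp F (Fin k)) hJ hJd
  have hPdet : IsUnit P.det := by
    have h := congrArg Matrix.det hP
    rw [Matrix.det_mul, Matrix.det_mul, Matrix.det_transpose, Matrix.det_one] at h
    rw [isUnit_iff_ne_zero]
    intro h0
    rw [h0, zero_mul, zero_mul] at h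
    exact zero_ne_one h
  obtain ⟨hU, ho⟩ := Cfsg.Agent.Helper10.PU.isU_conj_of_cong φ (Jhyp F (Fin k)) P A1 hP hinv1
  set B : Matrix (Fin k ⊕ Fin k) (Fin k ⊕ Fin k) F := P⁻¹ * A1 * P with hB
  have hBdet : B.det = 1 := by
    rw [hB, Matrix.det_conj' ((Matrix.isUnit_iff_isUnit_det P).2 hPdet) A1]
    exact hdetA1
  have hBs : B ^ (w / d) = c • (1 : Matrix (Fin k ⊕ Fin k) (Fin k ⊕ Fin k) F) := by
    rw [hB, Cfsg.Agent.Helper10.PU.pue_conj_pow P A1 hPdet, hA1s, Matrix.mul_smul, Matrix.smul_mul,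
      Matrix.mul_one, Matrix.nonsing_inv_mul P hPdet]
  -- reindex
  let e : Fin k ⊕ Fin k ≃ Fin n := finSumFinEquiv.trans (finCongr hk.symm)
  refine ⟨B.submatrix e.symm e.symm, (isU_submatrix_iff φ e B).2 hU, ?_, ?_, c, ?_⟩
  · rw [Matrix.det_submatrix_equiv_self]
    exact hBdet
  · have h1 : orderOf (B.submatrix e.symm e.symm) = orderOf B := by
      apply orderOf_eq_orderOf_iff.2
      intro m
      rw [Cfsg.Agent.Helper10.PU.pue_block_submatrix_pow]
      constructor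
      · intro h
        have h2 := (Cfsg.Agent.Helper10.PU.pue_block_submatrix_eq_smul_one e (B ^ m) 1).1
          (by rw [one_smul]; exact h)
        rw [one_smul] at h2
        exact h2
      · intro h
        rw [h, Matrix.submatrix_one_equiv]
    rw [h1, ho, hord1, hS1o]
  · rw [Cfsg.Agent.Helper10.PU.pue_block_submatrix_pow, hBs]
    exact (Cfsg.Agent.Helper10.PU.pue_block_submatrix_eq_smul_one e _ c).2 rfl

end Cfsg.Agent.Helper16.PU3
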