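import Mathlib
import Cfsg.Prelude.Def_Classical
import Cfsg.Agent.Lib.Helper10.PUDefs
import Cfsg.Agent.Lib.Helper21.PL3Defs
import Cfsg.Agent.Lib.Helper16.PU3Defs
import Cfsg.Agent.Lib.Helper16.PUEDefs
import Cfsg.Agent.Lib.Helper11.Unitary3
import Cfsg.Agent.Lib.Helper11.UnitaryGeom
import Cfsg.Agent.Lib.PUE.PUEZETA
import Cfsg.Agent.Lib.PUE.PUETR
import Cfsg.Agent.Lib.PUE.PUECONG
import Cfsg.Agent.Lib.PUE.PUECONJ
import Cfsg.Agent.Lib.PL3.PL3ROOTS
import Cfsg.Agent.Lib.PU3.PU3GRAM2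
import Cfsg.Agent.Lib.PU3.PU3NUMD

/-!
# S2511, piece PU3-TORODD (helper8): for `n` odd, a torus element of `SU_n(q)` of order `wfun q n`
whose `(wfun q n / gcd n (q+1))`-th power is scalar.
-/

set_option autoImplicit false
set_option linter.unusedSectionVars false
set_option linter.unusedVariables false

namespace Cfsg.Agent.Helper16.PU3

open Polynomial Matrix
open Cfsg.Agent.Helper11.Herm
open Cfsg.Agent.Helper10.PU (dagger Efun wfun)
open Cfsg.Agent.Helper21.PL3 (Good)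

variable {F : Type*} [Field F] [Fintype F] {q : ℕ}

/-- PIECE PU3-TORODD [L2]. -/
theorem exists_torus_odd (hF : Fintype.card F = q ^ 2) (φ : F →+* F) (hφ : ∀ x, φ x = x ^ q)
    (n : ℕ) (hn : Odd n) :
    ∃ A : Matrix (Fin n) (Fin n) F, IsU φ A ∧ A.det = 1 ∧ orderOf A = wfun q n ∧
      ∃ c : F, A ^ (wfun q n / Nat.gcd n (q + 1)) = c • (1 : Matrix (Fin n) (Fin n) F) := by
  classical
  have hq2 : 2 ≤ q := two_le_q hF
  have hn1 : 1 ≤ n := hn.pos
  obtain ⟨K, _, _, _, τ, ζ, hfr, hτF, hττ, hζ, hζo⟩ :=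
    Cfsg.Agent.Helper10.PU.exists_zeta_field hF φ hφ n hn
  have hφφ := frob_frob hF φ hφ
  have htr := Cfsg.Agent.Helper10.PU.trace_semilinear φ hφφ τ hτF hττ
  let b : Module.Basis (Fin n) F K := Module.finBasisOfFinrankEq F K hfr
  obtain ⟨H, hH, hdetH, hinv⟩ := exists_gram_all φ τ hτF hττ htr b
  obtain ⟨P, hP⟩ := Cfsg.Agent.Helper10.PU.exists_cong φ hφφ (frob_norm_surj hF φ hφ)
    (frob_trace_ne_zero hF φ hφ) H hH hdetH
  -- `P` is invertible
  have hPdet : IsUnit P.det := by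
    have h := congrArg Matrix.det hP
    rw [Matrix.det_mul, Matrix.det_mul, Matrix.det_transpose, Matrix.det_one] at h
    rw [isUnit_iff_ne_zero]
    intro h0
    rw [h0, zero_mul, zero_mul] at h
    exact zero_ne_one h
  -- numerics
  have hEf : Efun q n = q ^ n + 1 := by
    unfold Cfsg.Agent.Helper10.PU.Efun
    rw [if_neg (Nat.not_even_iff_odd.2 hn)]
  obtain ⟨hdw, hw0⟩ := gcd_dvd_wfun q n hq2 hn1
  have hq1dvd : q + 1 ∣ q ^ n + 1 := by
    have := Odd.nat_add_dvd_pow_add_pow q 1 hn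
    rwa [one_pow] at this
  have hw : wfun q n = (q ^ n + 1) / (q + 1) := by
    unfold Cfsg.Agent.Helper10.PU.wfun
    rw [hEf]
  set w := wfun q n with hwdef
  set d := Nat.gcd n (q + 1) with hd
  have hd0 : 0 < d := Nat.gcd_pos_of_pos_left _ hn1
  have hdq : d ∣ q + 1 := Nat.gcd_dvd_right _ _
  have hdF : d ∣ Fintype.card F - 1 := by
    rw [hF, sq_sub_one q (by omega)]
    exact hdq.trans (Dvd.intro _ rfl)
  -- the elements
  set ζ1 : K := ζ ^ (q + 1) with hζ1def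
  have hζ1 : ζ1 * τ ζ1 = 1 := by rw [hζ1def, map_pow, ← mul_pow, hζ, one_pow]
  have hζ1o : orderOf ζ1 = w := by
    rw [hζ1def, orderOf_pow' ζ (by omega : q + 1 ≠ 0), hζo, Nat.gcd_eq_right hq1dvd, hw]
  set Aζ : Matrix (Fin n) (Fin n) F := Algebra.leftMulMatrix b ζ with hAζ
  set A0 : Matrix (Fin n) (Fin n) F := Algebra.leftMulMatrix b ζ1 with hA0def
  have hA0pow : A0 = Aζ ^ (q + 1) := by rw [hA0def, hζ1def, map_pow]
  have hA0 := hinv ζ1 hζ1
  obtain ⟨hU, ho⟩ := Cfsg.Agent.Helper10.PU.isU_conj_of_cong φ H P A0 hP hA0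
  -- the order
  have hordA0 : orderOf A0 = w := by
    rw [← hζ1o, hA0def]
    exact orderOf_injective
      ((Algebra.leftMulMatrix b : K →ₐ[F] Matrix (Fin n) (Fin n) F) : K →* Matrix (Fin n) (Fin n) F)
      (by intro x y hxy; exact Algebra.leftMulMatrix_injective b hxy) ζ1
  -- the determinant
  have hδ : Aζ.det * φ Aζ.det = 1 := by
    have h := congrArg Matrix.det (hinv ζ hζ)
    rw [Matrix.det_mul, Matrix.det_mul, Matrix.det_transpose] at h
    have h2 : ((Algebra.leftMulMatrix b ζ).map φ).det = φ (Algebra.leftMulMatrix b ζ).det := by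
      rw [RingHom.map_det]; rfl
    rw [h2] at h
    have h3 : (Aζ.det * φ Aζ.det) * H.det = 1 * H.det := by
      rw [hAζ]
      linear_combination h
    exact mul_right_cancel₀ hdetH h3
  have hdetA0 : A0.det = 1 := by
    rw [hA0pow, Matrix.det_pow, pow_succ', ← hφ]
    exact hδ
  -- the scalar power
  have hκ : (ζ1 ^ (w / d)) ^ d = 1 := by
    rw [← pow_mul, Nat.div_mul_cancel hdw, ← hζ1o, pow_orderOf_eq_one]
  obtain ⟨a, had, haκ⟩ := Cfsg.Agent.Helper21.PL3.mem_range_of_pow_eq_one d hdF (ζ1 ^ (w / d)) hκ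
  have hA0s : A0 ^ (w / d) = a • (1 : Matrix (Fin n) (Fin n) F) := by
    rw [hA0def, ← map_pow, ← haκ, AlgHom.commutes, Algebra.algebraMap_eq_smul_one]
  refine ⟨P⁻¹ * A0 * P, hU, ?_, ?_, a, ?_⟩
  · rw [Matrix.det_conj' ((Matrix.isUnit_iff_isUnit_det P).2 hPdet) A0]
    exact hdetA0
  · rw [ho, hordA0]
  · rw [Cfsg.Agent.Helper10.PU.pue_conj_pow P A0 hPdet, hA0s, Matrix.mul_smul, Matrix.smul_mul,
      Matrix.mul_one, Matrix.nonsing_inv_mul P hPdet]

end Cfsg.Agent.Helper16.PU3
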