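import Mathlib
import Cfsg.Prelude.Def_Classical
import Cfsg.Agent.Lib.Helper10.PUDefs
import Cfsg.Agent.Lib.Helper16.PU3Defs
import Cfsg.Agent.Lib.Helper11.Unitary3
import Cfsg.Agent.Lib.Helper11.UnitaryGeom
import Cfsg.Agent.Lib.PU3.PU3SUCENT
import Cfsg.Agent.Lib.PU3.PU3NUMD
import Cfsg.Agent.Lib.PU3.PU3TORODD
import Cfsg.Agent.Lib.PU3.PU3TOREVEN

/-! # S2511 piece PU3-TORUSEX (helper10): an element of order `MU q n` in `PSU_n(q)`. -/

set_option autoImplicit false
set_option linter.unusedSectionVars false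
set_option linter.unusedVariables false

namespace Cfsg.Agent.Helper16.PU3

open Polynomial Matrix
open Cfsg.Agent.Helper11.Herm
open Cfsg.Agent.Helper10.PU (dagger Efun wfun)

section abs

variable {F : Type*} [Field F]

theorem pu3_torusex_isU_pow (φ : F →+* F) {n : ℕ} (A : Matrix (Fin n) (Fin n) F) (hA : IsU φ A)
    (k : ℕ) : IsU φ (A ^ k) := by
  induction k with
  | zero => rw [pow_zero]; exact isU_one φ
  | succ k ih => rw [pow_succ]; exact IsU.mul φ ih hA

theorem pu3_torusex_smul (φ : F →+* F) {n : ℕ} (hn : 1 ≤ n) (c : F)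
    (h : IsU φ (c • (1 : Matrix (Fin n) (Fin n) F))) : c * φ c = 1 := by
  rw [Matrix.smul_one_eq_diagonal] at h
  unfold IsU at h
  rw [Matrix.diagonal_transpose, Matrix.diagonal_map (map_zero φ),
    Matrix.diagonal_mul_diagonal] at h
  have := congrFun (congrFun h ⟨0, hn⟩) ⟨0, hn⟩
  rw [Matrix.diagonal_apply_eq, Matrix.one_apply_eq] at this
  exact this

end abs

section fin

variable {F : Type*} [Field F] [Fintype F] {q : ℕ}

/-- PIECE PU3-TORUSEX [L3]. -/
theorem exists_orderOf_eq_MU (hF : Fintype.card F = q ^ 2) (n : ℕ) (hn : 1 ≤ n) :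
    ∃ y : Cfsg.PSU n F q, orderOf y = MU q n := by
  classical
  obtain ⟨φ, hφ⟩ := exists_frob hF
  have hq2 : 2 ≤ q := two_le_q hF
  obtain ⟨A, hU, hdet, hAo, c0, hAsc⟩ : ∃ A : Matrix (Fin n) (Fin n) F, IsU φ A ∧ A.det = 1 ∧
      orderOf A = wfun q n ∧
      ∃ c : F, A ^ (wfun q n / Nat.gcd n (q + 1)) = c • (1 : Matrix (Fin n) (Fin n) F) := by
    rcases Nat.even_or_odd n with he | ho
    · exact exists_torus_even hF φ hφ n he hn
    · exact exists_torus_odd hF φ hφ n ho
  have hUall : ∀ φ' : F →+* F, (∀ x, φ' x = x ^ q) → IsU φ' A := by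
    intro φ' hφ'
    have : φ' = φ := RingHom.ext (fun x => by rw [hφ', hφ])
    rw [this]
    exact hU
  set u : Cfsg.SU n F q := mkSU hF n A hdet hUall with hu
  have hcoe : ((u : Matrix.SpecialLinearGroup (Fin n) F) : Matrix (Fin n) (Fin n) F) = A :=
    coe_mkSU hF n A hdet hUall
  obtain ⟨hdw, hwpos⟩ := gcd_dvd_wfun q n hq2 hn
  have hd0 : 0 < Nat.gcd n (q + 1) := Nat.gcd_pos_of_pos_left _ (by omega)
  have hwM : wfun q n = Nat.gcd n (q + 1) * MU q n := by
    unfold MU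
    rw [Nat.mul_div_cancel' hdw]
  refine ⟨(QuotientGroup.mk u : Cfsg.PSU n F q), ?_⟩
  apply Nat.dvd_antisymm
  · rw [orderOf_dvd_iff_pow_eq_one, mk_pow_eq_one_iff hF n hn u (MU q n), hcoe]
    exact ⟨c0, hAsc⟩
  · have h1 := pow_orderOf_eq_one (QuotientGroup.mk u : Cfsg.PSU n F q)
    rw [mk_pow_eq_one_iff hF n hn u _, hcoe] at h1
    obtain ⟨c, hc⟩ := h1
    set j := orderOf (QuotientGroup.mk u : Cfsg.PSU n F q) with hj
    have hcc : c * φ c = 1 := by
      have h := pu3_torusex_isU_pow φ A hU j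
      rw [hc] at h
      exact pu3_torusex_smul φ hn c h
    have hcq : c ^ (q + 1) = 1 := by
      rw [pow_succ', ← hφ]
      exact hcc
    have hcn : c ^ n = 1 := by
      have h := congrArg Matrix.det hc
      rw [Matrix.det_pow, hdet, one_pow, Matrix.det_smul, Matrix.det_one, mul_one,
        Fintype.card_fin] at h
      exact h.symm
    have hcd : c ^ Nat.gcd n (q + 1) = 1 := pow_gcd_eq_one.2 ⟨hcn, hcq⟩
    have hpow : A ^ (Nat.gcd n (q + 1) * j) = 1 := by
      rw [mul_comm, pow_mul, hc, _root_.smul_pow, one_pow, hcd, one_smul]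
    have hdvd := orderOf_dvd_of_pow_eq_one hpow
    rw [hAo, hwM] at hdvd
    exact Nat.dvd_of_mul_dvd_mul_left hd0 hdvd

end fin

end Cfsg.Agent.Helper16.PU3
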