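import Mathlib
import Cfsg.Prelude.Def_Classical
import Cfsg.Agent.Lib.Helper10.PUDefs
import Cfsg.Agent.Lib.Helper21.PL3Defs
import Cfsg.Agent.Lib.Helper16.PU3Defs
import Cfsg.Agent.Lib.Helper11.Unitary3
import Cfsg.Agent.Lib.PU3.PU3SUCENT

/-!
# S2511, piece PU3-TORUSEX, core (helper8): an element of order `MU q n` in `PSU_n(q)` from a torus
element of `SU_n(q)` (the common conclusion of PU3-TORODD / PU3-TOREVEN, a hypothesis here) and
PU3-NUMD (a hypothesis here).
-/

set_option autoImplicit false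
set_option linter.unusedSectionVars false
set_option linter.unusedVariables false

namespace Cfsg.Agent.Helper16.PU3

open Polynomial Matrix
open Cfsg.Agent.Helper11.Herm
open Cfsg.Agent.Helper10.PU (dagger Efun wfun)
open Cfsg.Agent.Helper21.PL3 (Good)

variable {F : Type*} [Field F] [Fintype F] {q : ℕ}

omit [Fintype F] in
/-- a unitary scalar matrix has norm one -/
theorem pu3_torusex_scalar (φ : F →+* F) (n : ℕ) (hn : 1 ≤ n) (c : F)
    (h : IsU φ (c • (1 : Matrix (Fin n) (Fin n) F))) : c * φ c = 1 := by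
  unfold IsU at h
  have h1 := congrFun (congrFun h ⟨0, hn⟩) ⟨0, hn⟩
  rw [Matrix.smul_one_eq_diagonal, Matrix.diagonal_transpose, Matrix.diagonal_map (map_zero φ),
    Matrix.diagonal_mul_diagonal, Matrix.diagonal_apply_eq, Matrix.one_apply_eq] at h1
  exact h1

theorem pu3_torusex_core (hF : Fintype.card F = q ^ 2) (n : ℕ) (hn : 1 ≤ n)
    (φ : F →+* F) (hφ : ∀ x, φ x = x ^ q)
    (htor : ∃ A : Matrix (Fin n) (Fin n) F, IsU φ A ∧ A.det = 1 ∧ orderOf A = wfun q n ∧
      ∃ c : F, A ^ (wfun q n / Nat.gcd n (q + 1)) = c • (1 : Matrix (Fin n) (Fin n) F))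
    (hnumd : Nat.gcd n (q + 1) ∣ wfun q n ∧ 0 < wfun q n) :
    ∃ y : Cfsg.PSU n F q, orderOf y = MU q n := by
  classical
  obtain ⟨A, hU, hdet, hord, c0, hc0⟩ := htor
  obtain ⟨hdw, hw0⟩ := hnumd
  set w := wfun q n with hw
  set d := Nat.gcd n (q + 1) with hd
  have hd0 : 0 < d := Nat.gcd_pos_of_pos_left _ (by omega)
  have hMU : MU q n = w / d := rfl
  have hwd : w = d * (w / d) := (Nat.mul_div_cancel' hdw).symm
  have hUall : ∀ φ' : F →+* F, (∀ x, φ' x = x ^ q) → IsU φ' A := by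
    intro φ' hφ'
    have : φ' = φ := RingHom.ext (fun x => by rw [hφ', hφ])
    rw [this]; exact hU
  set u : Cfsg.SU n F q := mkSU hF n A hdet hUall with hu
  have hcoe : ((u : Matrix.SpecialLinearGroup (Fin n) F) : Matrix (Fin n) (Fin n) F) = A :=
    coe_mkSU hF n A hdet hUall
  refine ⟨(QuotientGroup.mk u : Cfsg.PSU n F q), ?_⟩
  rw [hMU]
  apply Nat.dvd_antisymm
  · apply orderOf_dvd_of_pow_eq_one
    rw [mk_pow_eq_one_iff hF n hn u (w / d), hcoe]
    exact ⟨c0, hc0⟩
  · -- `y ^ j = 1` forces `w / d ∣ j`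
    set j := orderOf (QuotientGroup.mk u : Cfsg.PSU n F q) with hj
    have h1 : (QuotientGroup.mk u : Cfsg.PSU n F q) ^ j = 1 := pow_orderOf_eq_one _
    rw [mk_pow_eq_one_iff hF n hn u j, hcoe] at h1
    obtain ⟨c, hc⟩ := h1
    -- `A ^ j` is unitary of determinant one
    have hUj : IsU φ (A ^ j) := by
      have hm : ((u ^ j : Cfsg.SU n F q) : Matrix.SpecialLinearGroup (Fin n) F) ∈ Cfsg.SU n F q :=
        (u ^ j).2
      rw [mem_SU_iff_isU φ hφ, pu3_sucent_coe_pow, hcoe] at hm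
      exact hm
    have hcφ : c * φ c = 1 := by
      rw [hc] at hUj
      exact pu3_torusex_scalar φ n hn c hUj
    have hcq : c ^ (q + 1) = 1 := by
      rw [pow_succ', ← hφ]; exact hcφ
    have hcn : c ^ n = 1 := by
      have h2 : (A ^ j).det = 1 := by rw [Matrix.det_pow, hdet, one_pow]
      rw [hc, Matrix.det_smul, Matrix.det_one, mul_one, Fintype.card_fin] at h2
      exact h2
    have hcd : c ^ d = 1 := pow_gcd_eq_one.2 ⟨hcn, hcq⟩
    have h3 : A ^ (j * d) = 1 := by
      rw [pow_mul, hc, _root_.smul_pow, one_pow, hcd, one_smul]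
    have h4 : w ∣ j * d := by
      rw [← hord]; exact orderOf_dvd_of_pow_eq_one h3
    rw [hwd, mul_comm j d] at h4
    exact Nat.dvd_of_mul_dvd_mul_left hd0 h4

end Cfsg.Agent.Helper16.PU3
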