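import Mathlib
import Cfsg.Prelude.Def_Classical
import Cfsg.Agent.Lib.Helper11.Unitary3
import Cfsg.Agent.Lib.Helper11.UnitaryGeom
import Cfsg.Agent.Lib.PL3.PL3UNIP

/-!
# S2511 piece PU3-UNIPMAT (helper21): a regular unipotent isometry of the flip hermitian form.

`Hf` is the flip matrix, `N` the upper shift, `Nᵀ * Hf = Hf * N`.  For `β` with `γ = φ β ≠ β` put
`B = 1 + β • N`, `B' = 1 + γ • N`, `A0 = B * B'⁻¹` (the inverse written as a geometric sum).
-/

set_option autoImplicit false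
set_option linter.unusedSectionVars false
set_option linter.unusedVariables false

namespace Cfsg.Agent.Helper16.PU3

open Polynomial Matrix
open Cfsg.Agent.Helper11.Herm

section core

variable {F : Type*} [Field F] [Fintype F]

/-- the flip matrix -/
def pu3_unipmat_Hf (F : Type*) [Field F] (J : ℕ) : Matrix (Fin J) (Fin J) F :=
  Matrix.of fun i j => if i.val + j.val + 1 = J then 1 else 0

theorem pu3_unipmat_Hf_apply (J : ℕ) (i j : Fin J) :
    pu3_unipmat_Hf F J i j = if i.val + j.val + 1 = J then 1 else 0 := rfl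

theorem pu3_unipmat_Hf_transpose (J : ℕ) : (pu3_unipmat_Hf F J)ᵀ = pu3_unipmat_Hf F J := by
  ext i j
  rw [Matrix.transpose_apply, pu3_unipmat_Hf_apply, pu3_unipmat_Hf_apply, add_comm j.val i.val]

theorem pu3_unipmat_Hf_map (φ : F →+* F) (J : ℕ) :
    (pu3_unipmat_Hf F J).map φ = pu3_unipmat_Hf F J := by
  ext i j
  rw [Matrix.map_apply, pu3_unipmat_Hf_apply]
  split_ifs
  · exact map_one φ
  · exact map_zero φ

theorem pu3_unipmat_Hf_mul_self (J : ℕ) : pu3_unipmat_Hf F J * pu3_unipmat_Hf F J = 1 := by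
  ext i j
  rw [Matrix.mul_apply, Matrix.one_apply]
  simp only [pu3_unipmat_Hf_apply]
  have hk : J - 1 - i.val < J := by have := i.isLt; omega
  rw [Finset.sum_eq_single (⟨J - 1 - i.val, hk⟩ : Fin J)]
  · have hi := i.isLt
    have hj := j.isLt
    dsimp only
    rw [if_pos (show i.val + (J - 1 - i.val) + 1 = J by omega)]
    by_cases hij : i = j
    · subst hij
      rw [if_pos rfl, if_pos (show J - 1 - i.val + i.val + 1 = J by omega), mul_one]
    · rw [if_neg hij, if_neg, mul_zero]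
      intro h
      apply hij
      apply Fin.ext
      omega
  · intro l _ hl
    rw [if_neg, zero_mul]
    intro h
    apply hl
    apply Fin.ext
    show l.val = J - 1 - i.val
    omega
  · intro h
    exact absurd (Finset.mem_univ _) h

theorem pu3_unipmat_Hf_det (J : ℕ) : (pu3_unipmat_Hf F J).det ≠ 0 := by
  intro h
  have h1 := congrArg Matrix.det (pu3_unipmat_Hf_mul_self (F := F) J)
  rw [Matrix.det_mul, h, zero_mul, Matrix.det_one] at h1
  exact zero_ne_one h1

/-- the upper shift -/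
def pu3_unipmat_N (F : Type*) [Field F] (J : ℕ) : Matrix (Fin J) (Fin J) F :=
  Cfsg.Agent.Helper21.PL3.pl3_unip_N F J (J - 1)

theorem pu3_unipmat_N_apply (J : ℕ) (i j : Fin J) :
    pu3_unipmat_N F J i j = if i.val + 1 = j.val then 1 else 0 := by
  unfold pu3_unipmat_N
  rw [Cfsg.Agent.Helper21.PL3.pl3_unip_N_apply]
  have hj := j.isLt
  by_cases h : i.val + 1 = j.val
  · rw [if_pos h, if_pos ⟨h, by omega⟩]
  · rw [if_neg h, if_neg (fun h' => h h'.1)]

theorem pu3_unipmat_N_map (φ : F →+* F) (J : ℕ) :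
    (pu3_unipmat_N F J).map φ = pu3_unipmat_N F J := by
  ext i j
  rw [Matrix.map_apply, pu3_unipmat_N_apply]
  split_ifs
  · exact map_one φ
  · exact map_zero φ

theorem pu3_unipmat_N_pow_self (J : ℕ) (hJ : 1 ≤ J) : (pu3_unipmat_N F J) ^ J = 0 :=
  Cfsg.Agent.Helper21.PL3.pl3_unip_N_pow_eq_zero J (J - 1) J (by omega)

theorem pu3_unipmat_N_pow_pred (J : ℕ) (hJ : 1 ≤ J) : (pu3_unipmat_N F J) ^ (J - 1) ≠ 0 := by
  intro h
  have h1 := congrFun (congrFun h (⟨0, by omega⟩ : Fin J)) (⟨J - 1, by omega⟩ : Fin J)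
  rw [Matrix.zero_apply] at h1
  rcases Nat.eq_zero_or_pos (J - 1) with h0 | hpos
  · have h2 : (⟨J - 1, by omega⟩ : Fin J) = ⟨0, by omega⟩ := Fin.ext h0
    rw [h2, h0, pow_zero, Matrix.one_apply_eq] at h1
    exact one_ne_zero h1
  · obtain ⟨k, hk⟩ : ∃ k, J - 1 = k + 1 := ⟨J - 2, by omega⟩
    have h2 := Cfsg.Agent.Helper21.PL3.pl3_unip_N_pow (F := F) J (J - 1) k
      (⟨0, by omega⟩ : Fin J) (⟨J - 1, by omega⟩ : Fin J)
    rw [← hk] at h2
    unfold pu3_unipmat_N at h1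
    rw [h2, if_pos] at h1
    · exact one_ne_zero h1
    · refine ⟨?_, ?_⟩
      · show 0 + (J - 1) = J - 1
        omega
      · show J - 1 ≤ J - 1
        omega

theorem pu3_unipmat_NT_Hf (J : ℕ) (i j : Fin J) :
    ((pu3_unipmat_N F J)ᵀ * pu3_unipmat_Hf F J) i j = if i.val + j.val = J then 1 else 0 := by
  rw [Matrix.mul_apply]
  simp only [Matrix.transpose_apply, pu3_unipmat_N_apply, pu3_unipmat_Hf_apply]
  have hi := i.isLt
  have hj := j.isLt
  by_cases h : i.val + j.val = J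
  · rw [if_pos h]
    have hk : i.val - 1 < J := by omega
    rw [Finset.sum_eq_single (⟨i.val - 1, hk⟩ : Fin J)]
    · rw [if_pos (show i.val - 1 + 1 = i.val by omega),
        if_pos (show i.val - 1 + j.val + 1 = J by omega), mul_one]
    · intro l _ hl
      by_cases h1 : l.val + 1 = i.val
      · exfalso
        apply hl
        apply Fin.ext
        show l.val = i.val - 1
        omega
      · rw [if_neg h1, zero_mul]
    · intro h'
      exact absurd (Finset.mem_univ _) h'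
  · rw [if_neg h]
    apply Finset.sum_eq_zero
    intro l _
    by_cases h1 : l.val + 1 = i.val
    · rw [if_pos h1, one_mul, if_neg]
      omega
    · rw [if_neg h1, zero_mul]

theorem pu3_unipmat_Hf_N (J : ℕ) (i j : Fin J) :
    (pu3_unipmat_Hf F J * pu3_unipmat_N F J) i j = if i.val + j.val = J then 1 else 0 := by
  rw [Matrix.mul_apply]
  simp only [pu3_unipmat_N_apply, pu3_unipmat_Hf_apply]
  have hi := i.isLt
  have hj := j.isLt
  by_cases h : i.val + j.val = J
  · rw [if_pos h]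
    have hk : j.val - 1 < J := by omega
    rw [Finset.sum_eq_single (⟨j.val - 1, hk⟩ : Fin J)]
    · rw [if_pos (show i.val + (j.val - 1) + 1 = J by omega),
        if_pos (show j.val - 1 + 1 = j.val by omega), mul_one]
    · intro l _ hl
      by_cases h1 : l.val + 1 = j.val
      · exfalso
        apply hl
        apply Fin.ext
        show l.val = j.val - 1
        omega
      · rw [if_neg h1, mul_zero]
    · intro h'
      exact absurd (Finset.mem_univ _) h'
  · rw [if_neg h]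
    apply Finset.sum_eq_zero
    intro l _
    by_cases h1 : l.val + 1 = j.val
    · rw [if_pos h1, mul_one, if_neg]
      omega
    · rw [if_neg h1, mul_zero]

/-- the key relation `Nᵀ * Hf = Hf * N` -/
theorem pu3_unipmat_key (J : ℕ) :
    (pu3_unipmat_N F J)ᵀ * pu3_unipmat_Hf F J = pu3_unipmat_Hf F J * pu3_unipmat_N F J := by
  ext i j
  rw [pu3_unipmat_NT_Hf, pu3_unipmat_Hf_N]

/-- the matrices `M` with `Mᵀ * Hf = Hf * M` -/
def pu3_unipmat_T {J : ℕ} (Hf M : Matrix (Fin J) (Fin J) F) : Prop := Mᵀ * Hf = Hf * M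

theorem pu3_unipmat_T_smul {J : ℕ} {Hf M : Matrix (Fin J) (Fin J) F} (c : F)
    (h : pu3_unipmat_T Hf M) : pu3_unipmat_T Hf (c • M) := by
  unfold pu3_unipmat_T at h ⊢
  rw [Matrix.transpose_smul, Matrix.smul_mul, h, Matrix.mul_smul]

theorem pu3_unipmat_T_one {J : ℕ} (Hf : Matrix (Fin J) (Fin J) F) : pu3_unipmat_T Hf 1 := by
  unfold pu3_unipmat_T
  rw [Matrix.transpose_one, Matrix.one_mul, Matrix.mul_one]

theorem pu3_unipmat_T_pow {J : ℕ} {Hf M : Matrix (Fin J) (Fin J) F} (h : pu3_unipmat_T Hf M)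
    (k : ℕ) : pu3_unipmat_T Hf (M ^ k) := by
  unfold pu3_unipmat_T at h ⊢
  induction k with
  | zero => rw [pow_zero, Matrix.transpose_one, Matrix.one_mul, Matrix.mul_one]
  | succ k ih =>
    rw [pow_succ, Matrix.transpose_mul, Matrix.mul_assoc, ih, ← Matrix.mul_assoc, h,
      Matrix.mul_assoc, ← pow_succ', pow_succ]

theorem pu3_unipmat_T_sub {J : ℕ} {Hf M M' : Matrix (Fin J) (Fin J) F}
    (h : pu3_unipmat_T Hf M) (h' : pu3_unipmat_T Hf M') : pu3_unipmat_T Hf (M - M') := by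
  unfold pu3_unipmat_T at h h' ⊢
  rw [Matrix.transpose_sub, Matrix.sub_mul, h, h', Matrix.mul_sub]

theorem pu3_unipmat_T_sum {J : ℕ} {Hf : Matrix (Fin J) (Fin J) F} (s : Finset ℕ)
    (f : ℕ → Matrix (Fin J) (Fin J) F) (h : ∀ i ∈ s, pu3_unipmat_T Hf (f i)) :
    pu3_unipmat_T Hf (∑ i ∈ s, f i) := by
  unfold pu3_unipmat_T at h ⊢
  rw [Matrix.transpose_sum, Finset.sum_mul, Finset.mul_sum]
  exact Finset.sum_congr rfl h

/-- the core construction, over any field with an involution moving some element -/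
theorem pu3_unipmat_core (φ : F →+* F) (hφφ : ∀ x, φ (φ x) = x) (β : F) (hβ : φ β ≠ β)
    (J : ℕ) (hJ : 1 ≤ J) :
    ∃ H A0 : Matrix (Fin J) (Fin J) F, H.map φ = Hᵀ ∧ H.det ≠ 0 ∧ A0ᵀ * H * A0.map φ = H ∧
      (A0 - 1) ^ J = 0 ∧ (A0 - 1) ^ (J - 1) ≠ 0 := by
  classical
  obtain ⟨Hf, hHf⟩ : ∃ Hf, Hf = pu3_unipmat_Hf F J := ⟨_, rfl⟩
  obtain ⟨N, hN⟩ : ∃ N, N = pu3_unipmat_N F J := ⟨_, rfl⟩
  obtain ⟨γ, hγ⟩ : ∃ γ, γ = φ β := ⟨_, rfl⟩
  have hγβ : φ γ = β := by rw [hγ, hφφ]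
  -- `x = -γ N`, `x' = -β N`
  obtain ⟨x, hx⟩ : ∃ x : Matrix (Fin J) (Fin J) F, x = (-γ) • N := ⟨_, rfl⟩
  obtain ⟨x', hx'⟩ : ∃ x' : Matrix (Fin J) (Fin J) F, x' = (-β) • N := ⟨_, rfl⟩
  have hNJ : N ^ J = 0 := by rw [hN]; exact pu3_unipmat_N_pow_self J hJ
  have hxJ : x ^ J = 0 := by rw [hx, _root_.smul_pow, hNJ, smul_zero]
  have hx'J : x' ^ J = 0 := by rw [hx', _root_.smul_pow, hNJ, smul_zero]
  have hcNN : Commute N N := Commute.refl N
  have hcxx' : Commute x x' := by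
    rw [hx, hx']
    exact (hcNN.smul_left _).smul_right _
  have hcxN : Commute x N := by rw [hx]; exact hcNN.smul_left _
  have hcx'N : Commute x' N := by rw [hx']; exact hcNN.smul_left _
  obtain ⟨S, hS⟩ : ∃ S : Matrix (Fin J) (Fin J) F, S = ∑ i ∈ Finset.range J, x ^ i := ⟨_, rfl⟩
  obtain ⟨S', hS'⟩ : ∃ S' : Matrix (Fin J) (Fin J) F, S' = ∑ i ∈ Finset.range J, x' ^ i :=
    ⟨_, rfl⟩
  obtain ⟨B, hB⟩ : ∃ B : Matrix (Fin J) (Fin J) F, B = 1 - x' := ⟨_, rfl⟩
  obtain ⟨B', hB'⟩ : ∃ B' : Matrix (Fin J) (Fin J) F, B' = 1 - x := ⟨_, rfl⟩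
  -- inverses
  have hB'S : B' * S = 1 := by
    rw [hB', hS, mul_neg_geom_sum, hxJ, sub_zero]
  have hSB' : S * B' = 1 := by
    rw [hB', hS, geom_sum_mul_neg, hxJ, sub_zero]
  have hBS' : B * S' = 1 := by
    rw [hB, hS', mul_neg_geom_sum, hx'J, sub_zero]
  -- commutation
  have hcBB' : Commute B B' := by
    rw [hB, hB']
    exact (Commute.one_left _).sub_left ((Commute.one_right x').sub_right hcxx'.symm)
  -- maps
  have hxmap : x.map φ = x' := by
    rw [hx, hx']
    ext i j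
    rw [Matrix.map_apply, Matrix.smul_apply, Matrix.smul_apply, smul_eq_mul, smul_eq_mul, map_mul,
      map_neg, hγβ]
    congr 1
    have := congrFun (congrFun (pu3_unipmat_N_map (F := F) φ J) i) j
    rw [Matrix.map_apply] at this
    rw [hN]
    exact this
  have hx'map : x'.map φ = x := by
    rw [hx, hx']
    ext i j
    rw [Matrix.map_apply, Matrix.smul_apply, Matrix.smul_apply, smul_eq_mul, smul_eq_mul, map_mul,
      map_neg, ← hγ]
    congr 1
    have := congrFun (congrFun (pu3_unipmat_N_map (F := F) φ J) i) j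
    rw [Matrix.map_apply] at this
    rw [hN]
    exact this
  have hBmap : B.map φ = B' := by
    rw [hB, hB', ← RingHom.mapMatrix_apply, map_sub, map_one, RingHom.mapMatrix_apply, hx'map]
  have hSmap : S.map φ = S' := by
    rw [hS, hS', ← RingHom.mapMatrix_apply, map_sum]
    apply Finset.sum_congr rfl
    intro i _
    rw [map_pow, RingHom.mapMatrix_apply, hxmap]
  -- transposes
  have hTN : pu3_unipmat_T Hf N := by
    unfold pu3_unipmat_T
    rw [hHf, hN]
    exact pu3_unipmat_key J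
  have hTx : pu3_unipmat_T Hf x := by rw [hx]; exact pu3_unipmat_T_smul _ hTN
  have hTx' : pu3_unipmat_T Hf x' := by rw [hx']; exact pu3_unipmat_T_smul _ hTN
  have hTB : pu3_unipmat_T Hf B := by
    rw [hB]; exact pu3_unipmat_T_sub (pu3_unipmat_T_one Hf) hTx'
  have hTS : pu3_unipmat_T Hf S := by
    rw [hS]
    exact pu3_unipmat_T_sum _ _ (fun i _ => pu3_unipmat_T_pow hTx i)
  unfold pu3_unipmat_T at hTB hTS
  -- `A0 - 1`
  have hβγ : β - γ ≠ 0 := by
    intro h
    apply hβ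
    rw [← hγ]
    exact (sub_eq_zero.1 h).symm
  obtain ⟨D, hD⟩ : ∃ D : Matrix (Fin J) (Fin J) F, D = (β - γ) • N := ⟨_, rfl⟩
  have hBB' : B - B' = D := by
    rw [hB, hB', hx, hx', hD]
    ext i j
    simp only [Matrix.sub_apply, Matrix.smul_apply, Matrix.one_apply, smul_eq_mul]
    ring
  have hA0 : B * S - 1 = D * S := by
    rw [← hBB', Matrix.sub_mul, hB'S]
  have hcDx : Commute D x := by
    rw [hD, hx]
    exact (hcNN.smul_left _).smul_right _
  have hcDS : Commute D S := by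
    rw [hS]
    exact Commute.sum_right _ _ _ (fun i _ => hcDx.pow_right i)
  have hDpow : ∀ k : ℕ, D ^ k = (β - γ) ^ k • N ^ k := by
    intro k
    rw [hD, _root_.smul_pow]
  have hcSB' : Commute S B' := by
    rw [Commute, SemiconjBy, hSB', hB'S]
  refine ⟨Hf, B * S, ?_, ?_, ?_, ?_, ?_⟩
  · rw [hHf, pu3_unipmat_Hf_map, pu3_unipmat_Hf_transpose]
  · rw [hHf]; exact pu3_unipmat_Hf_det J
  · rw [Matrix.map_mul, hBmap, hSmap, Matrix.transpose_mul]
    calc Sᵀ * Bᵀ * Hf * (B' * S') = Sᵀ * (Bᵀ * Hf) * (B' * S') := by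
          simp only [Matrix.mul_assoc]
      _ = Sᵀ * (Hf * B) * (B' * S') := by rw [hTB]
      _ = (Sᵀ * Hf) * (B * B') * S' := by simp only [Matrix.mul_assoc]
      _ = (Hf * S) * (B' * B) * S' := by rw [hTS, hcBB'.eq]
      _ = Hf * ((S * B') * (B * S')) := by simp only [Matrix.mul_assoc]
      _ = Hf := by rw [hSB', hBS', Matrix.mul_one, Matrix.mul_one]
  · rw [hA0, hcDS.mul_pow, hDpow, hNJ, smul_zero, Matrix.zero_mul]
  · intro h0
    rw [hA0, hcDS.mul_pow, hDpow] at h0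
    have h1 : ((β - γ) ^ (J - 1) • N ^ (J - 1)) * S ^ (J - 1) * B' ^ (J - 1) = 0 := by
      rw [h0, Matrix.zero_mul]
    rw [Matrix.mul_assoc, ← hcSB'.mul_pow, hSB', one_pow, Matrix.mul_one] at h1
    rcases smul_eq_zero.1 h1 with h2 | h2
    · exact hβγ (eq_zero_of_pow_eq_zero h2)
    · rw [hN] at h2
      exact pu3_unipmat_N_pow_pred J hJ h2

end core

section fin

variable {F : Type*} [Field F] [Fintype F] {q : ℕ}

/-- PIECE PU3-UNIPMAT [L1]. -/
theorem exists_reg_unipotent (hF : Fintype.card F = q ^ 2) (φ : F →+* F) (hφ : ∀ x, φ x = x ^ q)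
    (J : ℕ) (hJ : 1 ≤ J) :
    ∃ H A0 : Matrix (Fin J) (Fin J) F, H.map φ = Hᵀ ∧ H.det ≠ 0 ∧ A0ᵀ * H * A0.map φ = H ∧
      (A0 - 1) ^ J = 0 ∧ (A0 - 1) ^ (J - 1) ≠ 0 := by
  have hφφ : ∀ x, φ (φ x) = x := frob_frob hF φ hφ
  have hne : φ ≠ RingHom.id F := frob_ne_id hF φ hφ
  obtain ⟨β, hβ⟩ : ∃ β : F, φ β ≠ β := by
    by_contra hall
    push Not at hall
    exact hne (RingHom.ext (fun x => by rw [hall x]; rfl))
  exact pu3_unipmat_core φ hφφ β hβ J hJ

end fin

end Cfsg.Agent.Helper16.PU3
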