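import Mathlib
import Cfsg.Prelude.Def_Classical
import Cfsg.Agent.Lib.Helper10.PUDefs
import Cfsg.Agent.Lib.Helper21.PL3Defs
import Cfsg.Agent.Lib.Helper16.PU3Defs
import Cfsg.Agent.Lib.Helper16.PUEDefs
import Cfsg.Agent.Lib.Helper11.Unitary3
import Cfsg.Agent.Lib.Helper11.UnitaryGeom
import Cfsg.Agent.Lib.PUE.PUECONG
import Cfsg.Agent.Lib.PUE.PUECONJ
import Cfsg.Agent.Lib.PU3.PU3GOODDEC
import Cfsg.Agent.Lib.PU3.PU3PBOUND
import Cfsg.Agent.Lib.PU3.PU3UNIPMAT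

/-!
# S2511, piece PU3-UPR, core (helper14 for helper16): an element of order `p ^ t * r` in `PSU_n(q)` as soon
as `p ^ t` divides an element order and `n - 1` is not a power of `p`.
-/

set_option autoImplicit false
set_option linter.unusedSectionVars false
set_option linter.unusedVariables false

namespace Cfsg.Agent.Helper16.PU3

open Polynomial Matrix
open Cfsg.Agent.Helper11.Herm
open Cfsg.Agent.Helper10.PU (dagger Efun wfun)
open Cfsg.Agent.Helper21.PL3 (Good)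

section fin

variable {F : Type*} [Field F] [Fintype F] {q : ℕ}

/-- the characteristic divides `q`. -/
theorem pu3_upr_p_dvd_q (hF : Fintype.card F = q ^ 2) (p : ℕ) [hp : Fact p.Prime] [CharP F p] :
    p ∣ q := by
  have h0 : ((Fintype.card F : ℕ) : F) = 0 := Nat.cast_card_eq_zero F
  have h1 : p ∣ Fintype.card F := (CharP.cast_eq_zero_iff F p _).1 h0
  rw [hF] at h1
  exact hp.out.dvd_of_dvd_pow h1

/-- in characteristic `p`, `x ^ (p ^ t) = 1` forces `x = 1`. -/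
theorem pu3_upr_eq_one_of_pow (p : ℕ) [Fact p.Prime] [CharP F p] (x : F) (t : ℕ)
    (h : x ^ p ^ t = 1) : x = 1 := by
  have h1 : (x - 1) ^ p ^ t = 0 := by
    rw [sub_pow_char_pow, h, one_pow, sub_self]
  exact sub_eq_zero.1 (pow_eq_zero_iff (pow_pos (Fact.out : p.Prime).pos t).ne' |>.1 h1)

/-- the order of a regular unipotent matrix of size `p ^ s + 1` is `p ^ (s + 1)`. -/
theorem pu3_upr_orderOf (p : ℕ) [hp : Fact p.Prime] [CharP F p] (s : ℕ)
    (A0 : Matrix (Fin (p ^ s + 1)) (Fin (p ^ s + 1)) F)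
    (h0 : (A0 - 1) ^ (p ^ s + 1) = 0) (h1 : (A0 - 1) ^ (p ^ s + 1 - 1) ≠ 0) :
    orderOf A0 = p ^ (s + 1) := by
  have hc : Commute A0 (1 : Matrix (Fin (p ^ s + 1)) (Fin (p ^ s + 1)) F) := Commute.one_right A0
  have hle : p ^ s + 1 ≤ p ^ (s + 1) := by
    have h2 : 2 ≤ p := hp.out.two_le
    have hpos : 1 ≤ p ^ s := Nat.one_le_pow _ _ hp.out.pos
    rw [pow_succ]
    nlinarith
  apply orderOf_eq_prime_pow
  · intro h
    apply h1
    rw [Nat.add_sub_cancel, sub_pow_char_pow_of_commute _ _ hc, h, one_pow, sub_self]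
  · have h2 : (A0 - 1) ^ p ^ (s + 1) = 0 := by
      obtain ⟨k, hk⟩ := Nat.exists_eq_add_of_le hle
      rw [hk, pow_add, h0, zero_mul]
    rw [sub_pow_char_pow_of_commute _ _ hc, one_pow] at h2
    exact sub_eq_zero.1 h2

/-- PIECE PU3-UPR, core: the statement of `exists_block_SU` (PU3-BLOCKSU) is a hypothesis. -/
theorem pu3_upr_core (hF : Fintype.card F = q ^ 2) (n : ℕ) (hn : 2 ≤ n) (p : ℕ)
    [Fact p.Prime] [CharP F p] (r : ℕ) (hr : r.Prime) (hrq : r ∣ q + 1) (hrn : ¬ r ∣ n)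
    (hnp : ¬ ∃ j : ℕ, n - 1 = p ^ j) (x : Cfsg.PSU n F q) (t : ℕ) (ht : 1 ≤ t)
    (hx : p ^ t ∣ orderOf x)
    (hblock : ∀ (φ : F →+* F) (hφ : ∀ x, φ x = x ^ q)
      (J : ℕ) (hJ1 : 1 ≤ J) (hJ : J + 1 ≤ n) (A : Matrix (Fin J) (Fin J) F) (hA : IsU φ A)
      (hdet : A.det = 1),
      ∃ (u : Cfsg.SU n F q) (e : Matrix (Fin n) (Fin n) F), e * e = e ∧ e ≠ 0 ∧ e ≠ 1 ∧
        eᵀ = e.map φ ∧
        Commute e ((u : Matrix.SpecialLinearGroup (Fin n) F) : Matrix (Fin n) (Fin n) F) ∧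
        orderOf (QuotientGroup.mk u : Cfsg.PSU n F q) = orderOf A) :
    ∃ y : Cfsg.PSU n F q, orderOf y = p ^ t * r := by
  have hp : p.Prime := Fact.out
  obtain ⟨φ, hφ⟩ := exists_frob hF
  have hφφ := frob_frob hF φ hφ
  obtain ⟨s, rfl⟩ : ∃ s, t = s + 1 := ⟨t - 1, by omega⟩
  have hlt : p ^ s < n := by
    have := pow_lt_of_pow_dvd_orderOf hF n (by omega) p x (s + 1) ht hx
    simpa using this
  have hne : n - 1 ≠ p ^ s := fun h => hnp ⟨s, h⟩
  have hJ : p ^ s + 1 + 1 ≤ n := by omega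
  obtain ⟨Hf, A0, hH, hdetH, hA0, hN0, hN1⟩ :=
    exists_reg_unipotent hF φ hφ (p ^ s + 1) (by omega)
  have hord : orderOf A0 = p ^ (s + 1) := pu3_upr_orderOf p s A0 hN0 hN1
  have hpow : A0 ^ p ^ (s + 1) = 1 := by rw [← hord]; exact pow_orderOf_eq_one A0
  have hdetA0 : A0.det = 1 := by
    apply pu3_upr_eq_one_of_pow p _ (s + 1)
    rw [← Matrix.det_pow, hpow, Matrix.det_one]
  obtain ⟨P, hP⟩ := Cfsg.Agent.Helper10.PU.exists_cong φ hφφ (frob_norm_surj hF φ hφ)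
    (frob_trace_ne_zero hF φ hφ) Hf hH hdetH
  obtain ⟨hU, ho⟩ := Cfsg.Agent.Helper10.PU.isU_conj_of_cong φ Hf P A0 hP hA0
  have hPdet : IsUnit P.det := by
    have h := congrArg Matrix.det hP
    rw [Matrix.det_mul, Matrix.det_mul, Matrix.det_transpose, Matrix.det_one] at h
    rw [isUnit_iff_ne_zero]
    intro h0
    rw [h0, zero_mul, zero_mul] at h
    exact zero_ne_one h
  have hPu : IsUnit P := (Matrix.isUnit_iff_isUnit_det P).2 hPdet
  have hdetA : (P⁻¹ * A0 * P).det = 1 := by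
    rw [Matrix.det_conj' hPu, hdetA0]
  obtain ⟨u, e, he, he0, he1, heh, hc, hou⟩ :=
    hblock φ hφ (p ^ s + 1) (by omega) hJ (P⁻¹ * A0 * P) hU hdetA
  obtain ⟨y, hy⟩ := good_of_herm_idempotent hF φ hφ n r hr hrq hrn u e he he0 he1 heh hc
  refine ⟨y, ?_⟩
  rw [hy, hou, ho, hord]
  have hpr : p ≠ r := by
    rintro rfl
    have h1 : p ∣ q := pu3_upr_p_dvd_q hF p
    have h2 : p ∣ 1 := (Nat.dvd_add_right h1).1 hrq
    exact hp.one_lt.ne' (Nat.dvd_one.1 h2)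
  have hcop : Nat.Coprime (p ^ (s + 1)) r :=
    Nat.Coprime.pow_left _ ((Nat.coprime_primes hp hr).2 hpr)
  exact hcop.lcm_eq_mul

end fin

end Cfsg.Agent.Helper16.PU3
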