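import Mathlib
import Cfsg.Agent.Lib.PU3.PU3UPRCore
import Cfsg.Agent.Lib.PU3.PU3BLOCKSU

/-!
# S2511, piece PU3-UPR (helper14 for helper16): an element of order `p ^ t * r` in `PSU_n(q)` as soon
as `p ^ t` divides an element order and `n - 1` is not a power of `p`.
-/

set_option autoImplicit false
set_option linter.unusedSectionVars false
set_option linter.unusedVariables false

namespace Cfsg.Agent.Helper16.PU3

open Polynomial Matrix
open Cfsg.Agent.Helper11.Herm
open Cfsg.Agent.Helper10.PU (dagger Efun wfun)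
open Cfsg.Agent.Helper21.PL3 (Good)

section fin

variable {F : Type*} [Field F] [Fintype F] {q : ℕ}

/-- PIECE PU3-UPR. -/
theorem exists_orderOf_eq_pow_mul (hF : Fintype.card F = q ^ 2) (n : ℕ) (hn : 2 ≤ n) (p : ℕ)
    [Fact p.Prime] [CharP F p] (r : ℕ) (hr : r.Prime) (hrq : r ∣ q + 1) (hrn : ¬ r ∣ n)
    (hnp : ¬ ∃ j : ℕ, n - 1 = p ^ j) (x : Cfsg.PSU n F q) (t : ℕ) (ht : 1 ≤ t)
    (hx : p ^ t ∣ orderOf x) :
    ∃ y : Cfsg.PSU n F q, orderOf y = p ^ t * r :=
  pu3_upr_core hF n hn p r hr hrq hrn hnp x t ht hx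
    (fun φ hφ J hJ1 hJ A hA hdet => exists_block_SU hF φ hφ n J hJ1 hJ A hA hdet)

end fin

end Cfsg.Agent.Helper16.PU3
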